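import Cfsg.Agent.KInf.Action
import Cfsg.Agent.Core.Solvable

/-!
# From a critical subgroup to the whole normal `p`-subgroup

If `g` kills the chief factors inside `Q` in `i` steps and those inside `Z(Q)` in `j` steps, it kills
those inside `P` in `i + j - 1` steps, when `[P, Q] ≤ Z(Q)` and `C_P(Q) = Z(Q)`.
-/

namespace Cfsg.Agent.KInf

open Subgroup
open scoped commutatorElement

set_option linter.unusedSectionVars false

variable {G : Type*} [Group G] [Finite G] {p : ℕ} [hp : Fact p.Prime]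

theorem le_centralizer_of_chief {P W₁ W₀ : Subgroup G} [W₀.Normal] [P.Normal] (hP : IsPGroup p P)
    (hW : W₁ ≤ P) (hch : Cfsg.IsChiefFactor W₁ W₀) :
    P.map (QuotientGroup.mk' W₀) ≤ centralizer (W₁.map (QuotientGroup.mk' W₀) : Set (G ⧸ W₀)) := by
  set f := QuotientGroup.mk' W₀
  have hf : Function.Surjective f := QuotientGroup.mk'_surjective W₀
  have hmin := Control.isMinNormal_image hch
  have hPn : (P.map f).Normal := (‹P.Normal›).map f hf
  have hWn : (W₁.map f).Normal := hmin.normal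
  have hnil := (hP.map f).isNilpotent
  have hne : (W₁.map f).subgroupOf (P.map f) ≠ ⊥ := by
    rw [Ne, subgroupOf_eq_bot, disjoint_iff, inf_eq_left.mpr (map_mono hW)]
    exact hmin.ne_bot
  obtain ⟨z, hz, hz1⟩ := (((W₁.map f).subgroupOf (P.map f)) ⊓ center (P.map f)).bot_or_exists_ne_one.resolve_left
    (Core.inf_center_ne_bot hne)
  have hmem : (z : G ⧸ W₀) ∈ W₁.map f ⊓ centralizer (P.map f : Set (G ⧸ W₀)) :=
    mem_inf.mpr ⟨hz.1, mem_centralizer_iff.mpr fun y hy =>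
      congrArg Subtype.val (mem_center_iff.mp hz.2 ⟨y, hy⟩)⟩
  rcases hmin.eq_of_le (W₁.map f ⊓ centralizer (P.map f : Set (G ⧸ W₀))) inferInstance inf_le_left
    with h | h
  · rw [h, mem_bot] at hmem
    exact absurd (Subtype.ext hmem) hz1
  · exact le_centralizer_iff.mp (h.ge.trans inf_le_right)

/-- The elements of `C_P(Q₀)` whose commutators with `Q₁` lie in `W`. -/
def fil (P Q₀ Q₁ W : Subgroup G) [W.Normal] : Subgroup G :=
  P ⊓ centralizer (Q₀ : Set G) ⊓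
    (centralizer (Q₁.map (QuotientGroup.mk' W) : Set (G ⧸ W))).comap (QuotientGroup.mk' W)

theorem mem_fil {P Q₀ Q₁ W : Subgroup G} [W.Normal] {x : G} :
    x ∈ fil P Q₀ Q₁ W ↔ x ∈ P ∧ x ∈ centralizer (Q₀ : Set G) ∧ ∀ u ∈ Q₁, ⁅x, u⁆ ∈ W := by
  rw [fil, mem_inf, mem_inf, mem_comap, mem_centralizer_iff, and_assoc]
  refine and_congr_right fun _ => and_congr_right fun _ => ⟨fun h u hu => ?_, ?_⟩
  · refine (QuotientGroup.eq_one_iff _).mp (show QuotientGroup.mk' W ⁅x, u⁆ = 1 from ?_)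
    rw [map_commutatorElement, commutatorElement_eq_one_iff_mul_comm]
    exact (h _ ⟨u, hu, rfl⟩).symm
  · rintro h _ ⟨u, hu, rfl⟩
    refine (commutatorElement_eq_one_iff_mul_comm.mp ?_).symm
    rw [← map_commutatorElement]
    exact (QuotientGroup.eq_one_iff _).mpr (h u hu)

instance fil_normal (P Q₀ Q₁ W : Subgroup G) [P.Normal] [Q₀.Normal] [Q₁.Normal] [W.Normal] :
    (fil P Q₀ Q₁ W).Normal := by
  have : (Q₁.map (QuotientGroup.mk' W)).Normal :=
    (‹Q₁.Normal›).map _ (QuotientGroup.mk'_surjective W)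
  have : ((centralizer (Q₁.map (QuotientGroup.mk' W) : Set (G ⧸ W))).comap
      (QuotientGroup.mk' W)).Normal := Normal.comap inferInstance _
  unfold fil
  infer_instance

variable {P Q₀ Q₁ W₀ W₁ : Subgroup G} [P.Normal] [Q₀.Normal] [Q₁.Normal] [W₀.Normal] [W₁.Normal]

theorem pairing_commute {g : G} {i j n : ℕ} (hn : i + j ≤ n + 1) (hP : IsPGroup p P)
    (hW : W₁ ≤ P) (hch : Cfsg.IsChiefFactor W₁ W₀)
    (hWQ : W₁ ≤ centralizer (Q₁ : Set G))
    (hQi : Cfsg.iterCommutator Q₁ (zpowers g) i ≤ Q₀)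
    (hWj : Cfsg.iterCommutator W₁ (zpowers g) j ≤ W₀) :
    Cfsg.iterCommutator (fil P Q₀ Q₁ W₁) (zpowers g) n ≤ fil P Q₀ Q₁ W₀ := by
  set f := QuotientGroup.mk' W₀ with hf
  have hcent := le_centralizer_of_chief hP hW hch
  have hPW : ∀ x ∈ P, ∀ w ∈ W₁, f x * f w * (f x)⁻¹ = f w := fun x hx w hw => by
    rw [← mem_centralizer_iff.mp (hcent ⟨x, hx, rfl⟩) (f w) ⟨w, hw, rfl⟩, mul_inv_cancel_right]
  -- bilinearity modulo `W₀`
  have hmulr : ∀ x : G, (∀ u ∈ Q₁, ⁅x, u⁆ ∈ W₁) → ∀ u ∈ Q₁, ∀ v ∈ Q₁, ⁅x, u * v⁆ = ⁅x, u⁆ * ⁅x, v⁆ := by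
    intro x hx u hu v hv
    have hc := mem_centralizer_iff.mp (hWQ (hx v hv)) u hu
    calc ⁅x, u * v⁆ = ⁅x, u⁆ * (u * ⁅x, v⁆ * u⁻¹) := by simp only [commutatorElement_def]; group
      _ = ⁅x, u⁆ * ⁅x, v⁆ := by rw [hc, mul_inv_cancel_right]
  have hmull : ∀ x ∈ P, ∀ y : G, ∀ u ∈ Q₁, ⁅y, u⁆ ∈ W₁ → f ⁅x * y, u⁆ = f ⁅y, u⁆ * f ⁅x, u⁆ := by
    intro x hx y u _ hy
    calc f ⁅x * y, u⁆ = f (x * ⁅y, u⁆ * x⁻¹ * ⁅x, u⁆) := by
          congr 1; simp only [commutatorElement_def]; group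
      _ = f ⁅y, u⁆ * f ⁅x, u⁆ := by rw [map_mul, map_mul, map_mul, map_inv, hPW x hx _ hy]
  obtain ⟨hWc, -⟩ := Control.image_facts hch (hP.to_le hW)
  refine iter_le_of_dg (commutator_le.mpr fun x hx y hy => ?_) g n fun x hx => ?_
  · obtain ⟨hxP, hxC, hxW⟩ := mem_fil.mp hx
    obtain ⟨hyP, hyC, hyW⟩ := mem_fil.mp hy
    have hxy : ⁅x, y⁆ ∈ fil P Q₀ Q₁ W₁ := by
      rw [commutatorElement_def]
      exact mul_mem (mul_mem (mul_mem hx hy) (inv_mem hx)) (inv_mem hy)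
    obtain ⟨hP', hC', hW'⟩ := mem_fil.mp hxy
    refine mem_fil.mpr ⟨hP', hC', fun u hu => (QuotientGroup.eq_one_iff _).mp ?_⟩
    change f ⁅⁅x, y⁆, u⁆ = 1
    have h1 : f ⁅x * y, u⁆ = f ⁅⁅x, y⁆ * (y * x), u⁆ := by
      congr 2; rw [commutatorElement_def]; group
    have hyx : ∀ a ∈ fil P Q₀ Q₁ W₁, ⁅a, u⁆ ∈ W₁ := fun a ha => (mem_fil.mp ha).2.2 u hu
    rw [hmull x hxP y u hu (hyW u hu), hmull _ hP' _ u hu (hyx _ (mul_mem hy hx)),
      hmull y hyP x u hu (hxW u hu)] at h1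
    have hcm : f ⁅x, u⁆ * f ⁅y, u⁆ = f ⁅y, u⁆ * f ⁅x, u⁆ := congrArg Subtype.val
      (hWc.is_comm.comm (⟨f ⁅x, u⁆, _, hxW u hu, rfl⟩ : W₁.map f) ⟨f ⁅y, u⁆, _, hyW u hu, rfl⟩)
    rw [hcm] at h1
    exact mul_eq_left.mp h1.symm
  · -- `dg` iterates
    have key : ∀ m : ℕ, ∀ x ∈ fil P Q₀ Q₁ W₁, ∀ a b : ℕ, n ≤ a + b + m → ∀ u ∈ Q₁,
        f ((dg g)^[a] ⁅(dg g)^[m] x, (dg g)^[b] u⁆) = 1 := by
      intro m
      induction m with
      | zero =>
        intro x hx a b hab u hu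
        obtain ⟨hxP, hxC, hxW⟩ := mem_fil.mp hx
        have hbu : (dg g)^[b] u ∈ Q₁ := dg_iterate_mem g hu b
        rcases le_or_gt j a with hja | hja
        · refine (QuotientGroup.eq_one_iff _).mpr (hWj ?_)
          exact (iter_anti W₁ _ hja) (dg_iterate_mem_iter W₁ g (hxW _ hbu) a)
        · have hib : i ≤ b := by omega
          have h0 : (dg g)^[b] u ∈ Q₀ :=
            hQi ((iter_anti Q₁ _ hib) (dg_iterate_mem_iter Q₁ g hu b))
          have h1 : ⁅x, (dg g)^[b] u⁆ = 1 :=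
            commutatorElement_eq_one_iff_mul_comm.mpr (mem_centralizer_iff.mp hxC _ h0).symm
          rw [Function.iterate_zero, id_eq, h1]
          have : ∀ k, (dg g)^[k] (1 : G) = 1 := by
            intro k
            induction k with
            | zero => rfl
            | succ k ih => rw [Function.iterate_succ_apply', ih, dg]; group
          rw [this, map_one]
      | succ m ih =>
        intro x hx a b hab u hu
        have hx₀ : (dg g)^[m] x ∈ fil P Q₀ Q₁ W₁ := dg_iterate_mem g hx m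
        set x₀ := (dg g)^[m] x with hx₀def
        obtain ⟨hxP, hxC, hxW⟩ := mem_fil.mp hx₀
        have hv : g⁻¹ * u * g ∈ Q₁ := by
          simpa using (‹Q₁.Normal›).conj_mem u hu g⁻¹
        set v := (dg g)^[b] (g⁻¹ * u * g) with hvdef
        have hvQ : v ∈ Q₁ := dg_iterate_mem g hv b
        have hσv : g * v * g⁻¹ = (dg g)^[b] u := by
          have hc := map_dg_iterate (MulAut.conj g).toMonoidHom g b (g⁻¹ * u * g)
          simp only [MulEquiv.coe_toMonoidHom, MulAut.conj_apply] at hc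
          rw [hvdef, hc]
          congr 1
          · funext z; simp [dg]
          · group
        set A₁ := f ⁅dg g x₀, (dg g)^[b] u⁆
        have hdgW : ⁅dg g x₀, (dg g)^[b] u⁆ ∈ W₁ :=
          (mem_fil.mp (dg_mem g hx₀)).2.2 _ (dg_iterate_mem g hu b)
        have e1 : f (dg g ⁅x₀, v⁆) = A₁ * f ⁅x₀, dg g v⁆ := by
          have hlhs : g * ⁅x₀, v⁆ * g⁻¹ = ⁅x₀ * dg g x₀, (dg g)^[b] u⁆ := by
            rw [mul_dg, ← hσv]; simp only [commutatorElement_def]; group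
          have hD : ⁅x₀, v⁆⁻¹ * ⁅x₀, (dg g)^[b] u⁆ = ⁅x₀, dg g v⁆ := by
            rw [← hσv, ← mul_dg, hmulr x₀ hxW v hvQ (dg g v) (dg_mem g hvQ), inv_mul_cancel_left]
          rw [show dg g ⁅x₀, v⁆ = ⁅x₀, v⁆⁻¹ * (g * ⁅x₀, v⁆ * g⁻¹) from rfl, hlhs, map_mul,
            hmull x₀ hxP _ _ (dg_iterate_mem g hu b) hdgW, ← hD, map_mul]
          have hA : A₁ * f ⁅x₀, v⁆⁻¹ = f ⁅x₀, v⁆⁻¹ * A₁ := congrArg Subtype.val
            (hWc.is_comm.comm (⟨A₁, _, hdgW, rfl⟩ : W₁.map f)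
              ⟨f ⁅x₀, v⁆⁻¹, _, inv_mem (hxW v hvQ), rfl⟩)
          rw [← mul_assoc, ← hA, mul_assoc]
        -- apply `dg` `a` more times
        have hhom : ∀ (k : ℕ) (w w' : G), w ∈ W₁ → w' ∈ W₁ →
            f ((dg g)^[k] (w * w')) = f ((dg g)^[k] w) * f ((dg g)^[k] w') := by
          intro k w w' hw hw'
          induction k with
          | zero => exact map_mul f w w'
          | succ k ihk =>
            rw [Function.iterate_succ_apply', Function.iterate_succ_apply',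
              Function.iterate_succ_apply', map_dg, map_dg, map_dg, ihk]
            set p₁ := f ((dg g)^[k] w)
            set p₂ := f ((dg g)^[k] w')
            have hm : (f g * p₁ * (f g)⁻¹) * p₂⁻¹ = p₂⁻¹ * (f g * p₁ * (f g)⁻¹) :=
              congrArg Subtype.val (hWc.is_comm.comm
                (⟨f g * p₁ * (f g)⁻¹, g * (dg g)^[k] w * g⁻¹,
                  (‹W₁.Normal›).conj_mem _ (dg_iterate_mem g hw k) g, by simp [p₁]⟩ : W₁.map f)
                ⟨p₂⁻¹, _, inv_mem (dg_iterate_mem g hw' k), map_inv f _⟩)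
            have hm2 : p₁⁻¹ * p₂⁻¹ = p₂⁻¹ * p₁⁻¹ := congrArg Subtype.val (hWc.is_comm.comm
              (⟨p₁⁻¹, _, inv_mem (dg_iterate_mem g hw k), map_inv f _⟩ : W₁.map f)
              ⟨p₂⁻¹, _, inv_mem (dg_iterate_mem g hw' k), map_inv f _⟩)
            simp only [dg]
            calc (p₁ * p₂)⁻¹ * (f g * (p₁ * p₂) * (f g)⁻¹)
                = p₂⁻¹ * p₁⁻¹ * (f g * p₁ * (f g)⁻¹ * (f g * p₂ * (f g)⁻¹)) := by group
              _ = p₁⁻¹ * (p₂⁻¹ * (f g * p₁ * (f g)⁻¹)) * (f g * p₂ * (f g)⁻¹) := by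
                  rw [← hm2]; group
              _ = p₁⁻¹ * (f g * p₁ * (f g)⁻¹) * (p₂⁻¹ * (f g * p₂ * (f g)⁻¹)) := by
                  rw [← hm]; group
        have h2 := ih x hx (a + 1) b (by omega) _ hv
        have h3 := ih x hx a (b + 1) (by omega) _ hv
        rw [Function.iterate_succ_apply] at h2
        rw [Function.iterate_succ_apply'] at h3
        rw [Function.iterate_succ_apply' (dg g) m x, ← hx₀def]
        have e2 := map_dg_iterate f g a (dg g ⁅x₀, v⁆)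
        rw [e1, show A₁ * f ⁅x₀, dg g v⁆ = f (⁅dg g x₀, (dg g)^[b] u⁆ * ⁅x₀, dg g v⁆) from
          (map_mul f _ _).symm, ← map_dg_iterate, hhom a _ _ hdgW (hxW _ (dg_mem g hvQ))] at e2
        rw [h2, h3, mul_one] at e2
        exact e2.symm
    obtain ⟨hP', hC', -⟩ := mem_fil.mp (dg_iterate_mem g hx n)
    exact mem_fil.mpr ⟨hP', hC', fun u hu =>
      (QuotientGroup.eq_one_iff _).mp (key n x hx 0 0 (by omega) u hu)⟩

omit [W₀.Normal] [W₁.Normal] in
theorem exists_chief_above {E F : Subgroup G} [E.Normal] [F.Normal] (h : E < F) :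
    ∃ E₁ : Subgroup G, E₁.Normal ∧ E < E₁ ∧ E₁ ≤ F ∧ Cfsg.IsChiefFactor E₁ E := by
  obtain ⟨E₁, hE₁, hmin⟩ := Set.exists_min_image {N : Subgroup G | N.Normal ∧ E < N ∧ N ≤ F}
    (fun N => Nat.card N) (Set.toFinite _) ⟨F, inferInstance, h, le_rfl⟩
  refine ⟨E₁, hE₁.1, hE₁.2.1, hE₁.2.2, hE₁.2.1, hE₁.1, inferInstance, fun N hN h1 h2 => ?_⟩
  rcases h1.eq_or_lt with rfl | hlt
  · exact Or.inl rfl
  · exact Or.inr (eq_of_le_of_card_ge h2 (hmin N ⟨hN, hlt, h2.trans hE₁.2.2⟩))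

omit [Q₀.Normal] [Q₁.Normal] [W₀.Normal] [W₁.Normal] in
theorem good_of_critical {Q Z : Subgroup G} [Q.Normal] [Z.Normal] (hP : IsPGroup p P) (hQP : Q ≤ P)
    (hZQ : Z ≤ Q) (hZC : Z ≤ centralizer (Q : Set G)) (hPQ : ⁅P, Q⁆ ≤ Z)
    (hC : P ⊓ centralizer (Q : Set G) ≤ Z) {g : G} {i j : ℕ} (hi : 1 ≤ i) (hQi : Good g i Q)
    (hZj : Good g j Z) : Good g (i + j - 1) P := by
  have hZn : Good g (i + j - 1) Z := hZj.mono_nat (by omega)
  -- descending induction on `Q₀`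
  suffices h : ∀ Q₀ : Subgroup G, Q₀.Normal → Q₀ ≤ Q →
      Good g (i + j - 1) (P ⊓ centralizer (Q₀ : Set G)) by
    intro U V hUV hU
    exact h ⊥ inferInstance bot_le U V hUV (le_inf hU fun x _ => mem_centralizer_iff.mpr
      fun y hy => by rw [mem_bot.mp hy, one_mul, mul_one])
  intro Q₀
  induction hn : Nat.card G - Nat.card Q₀ using Nat.strong_induction_on generalizing Q₀ with
  | _ k IH =>
  subst hn
  intro hQ₀ hle
  rcases hle.eq_or_lt with rfl | hlt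
  · exact fun U V hUV hU => hZn U V hUV (hU.trans hC)
  obtain ⟨Q₁, hQ₁, hlt₁, hle₁, hch₁⟩ := exists_chief_above hlt
  have hrec : Good g (i + j - 1) (P ⊓ centralizer (Q₁ : Set G)) := by
    refine IH _ ?_ Q₁ rfl hQ₁ hle₁
    have h1 := Core.card_lt_of_lt hlt₁
    have h2 := Nat.le_of_dvd Nat.card_pos (card_subgroup_dvd_card Q₁)
    omega
  -- ascending induction on the target subgroup
  have hF : ∀ W : Subgroup G, ∀ hW : W.Normal, W ≤ Z → Good g (i + j - 1) (fil P Q₀ Q₁ W) := by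
    intro W
    induction hm : Nat.card W using Nat.strong_induction_on generalizing W with
    | _ m IHm =>
    subst hm
    intro hW hWZ
    by_cases hW0 : W = ⊥
    · subst hW0
      refine fun U V hUV hU => hrec U V hUV (hU.trans fun x hx => ?_)
      obtain ⟨h1, -, h3⟩ := mem_fil.mp hx
      exact mem_inf.mpr ⟨h1, mem_centralizer_iff.mpr fun u hu =>
        (commutatorElement_eq_one_iff_mul_comm.mp (mem_bot.mp (h3 u hu))).symm⟩
    obtain ⟨W₀, hW₀, hltW, hchW⟩ := Control.exists_chief_below hW0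
    refine good_step (E₀ := fil P Q₀ Q₁ W₀) (IHm _ (Core.card_lt_of_lt hltW) W₀ rfl hW₀
      (hltW.le.trans hWZ)) ?_
    exact pairing_commute (i := i) (j := j) (by omega) hP ((hWZ.trans hZQ).trans hQP) hchW
      (hWZ.trans (hZC.trans (centralizer_le (SetLike.coe_subset_coe.mpr hle₁))))
      (hQi Q₁ Q₀ hch₁ hle₁) (hZj W W₀ hchW hWZ)
  refine fun U V hUV hU => hF Z inferInstance le_rfl U V hUV (hU.trans fun x hx => ?_)
  exact mem_fil.mpr ⟨hx.1, hx.2, fun u hu => hPQ (commutator_mem_commutator hx.1 (hle₁ hu))⟩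

end Cfsg.Agent.KInf
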