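import Cfsg.Agent.KInf.Action
import Cfsg.Agent.Control.Sections

/-!
# Elements acting trivially on chief factors
-/

namespace Cfsg.Agent.KInf

open Subgroup
open scoped commutatorElement

set_option linter.unusedSectionVars false

universe u

variable {G : Type u} [Group G]

/-- `g` acts trivially on the factor `U / V`. -/
def TrivOn (g : G) (U V : Subgroup G) : Prop := ∀ u ∈ U, ⁅g, u⁆ ∈ V

theorem trivOn_iff {g : G} {U V : Subgroup G} [V.Normal] :
    TrivOn g U V ↔ g ∈ (centralizer (U.map (QuotientGroup.mk' V) : Set (G ⧸ V))).comap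
      (QuotientGroup.mk' V) := by
  rw [mem_comap, mem_centralizer_iff]
  constructor
  · rintro h _ ⟨u, hu, rfl⟩
    refine (commutatorElement_eq_one_iff_mul_comm.mp ?_).symm
    rw [← map_commutatorElement]
    exact (QuotientGroup.eq_one_iff _).mpr (h u hu)
  · intro h u hu
    refine (QuotientGroup.eq_one_iff _).mp (show QuotientGroup.mk' V ⁅g, u⁆ = 1 from ?_)
    rw [map_commutatorElement, commutatorElement_eq_one_iff_mul_comm]
    exact (h _ ⟨u, hu, rfl⟩).symm

theorem trivOn_mul {g h : G} {U V : Subgroup G} [V.Normal] (hg : TrivOn g U V) (hh : TrivOn h U V) :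
    TrivOn (g * h) U V :=
  trivOn_iff.mpr (mul_mem (trivOn_iff.mp hg) (trivOn_iff.mp hh))

theorem trivOn_inv {g : G} {U V : Subgroup G} [V.Normal] (hg : TrivOn g U V) : TrivOn g⁻¹ U V :=
  trivOn_iff.mpr (inv_mem (trivOn_iff.mp hg))

/-- The elements acting trivially on the chief factors satisfying `C`. -/
def kerOn (C : Subgroup G → Subgroup G → Prop) : Subgroup G where
  carrier := {g | ∀ U V, Cfsg.IsChiefFactor U V → C U V → TrivOn g U V}
  one_mem' := fun U V hUV _ u _ => by
    rw [commutatorElement_one_left]; exact one_mem V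
  mul_mem' := fun {a b} ha hb U V hUV hC =>
    haveI := hUV.2.2.1
    trivOn_mul (ha U V hUV hC) (hb U V hUV hC)
  inv_mem' := fun {a} ha U V hUV hC =>
    haveI := hUV.2.2.1
    trivOn_inv (ha U V hUV hC)

theorem mem_kerOn {C : Subgroup G → Subgroup G → Prop} {g : G} :
    g ∈ kerOn C ↔ ∀ U V, Cfsg.IsChiefFactor U V → C U V → TrivOn g U V := Iff.rfl

instance kerOn_normal (C : Subgroup G → Subgroup G → Prop) : (kerOn C).Normal := by
  refine ⟨fun g hg c U V hUV hC u hu => ?_⟩
  have h1 := hg U V hUV hC (c⁻¹ * u * c) (by simpa using hUV.2.1.conj_mem u hu c⁻¹)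
  have h2 := hUV.2.2.1.conj_mem _ h1 c
  convert h2 using 1
  simp only [commutatorElement_def]; group

theorem commutator_zpowers_le {g : G} {U V : Subgroup G} [V.Normal] (h : TrivOn g U V) :
    ⁅U, zpowers g⁆ ≤ V := by
  refine commutator_le.mpr fun u hu z hz => ?_
  have hz' : TrivOn z U V := trivOn_iff.mpr (zpowers_le.mpr (trivOn_iff.mp h) hz)
  rw [← commutatorElement_inv]
  exact inv_mem (hz' u hu)

theorem trivOn_of_commutator_le {g : G} {U V : Subgroup G} (h : ⁅U, zpowers g⁆ ≤ V) :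
    TrivOn g U V := fun u hu => by
  rw [← commutatorElement_inv]
  exact inv_mem (h (commutator_mem_commutator hu (mem_zpowers g)))

variable [Finite G] {p : ℕ} [hp : Fact p.Prime]

/-- A `p'`-element trivial on the chief factors between `Z₀` and `E` and centralising `Z₀`
centralises `E`. -/
theorem centralizes_of_trivOn {Z₀ E : Subgroup G} [hZn : Z₀.Normal] [hEn : E.Normal]
    (hE : IsPGroup p E) (hle : Z₀ ≤ E) {k : G} (hk : (orderOf k).Coprime p)
    (hZ : ∀ z ∈ Z₀, k * z * k⁻¹ = z)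
    (h : ∀ U V, Cfsg.IsChiefFactor U V → Z₀ ≤ V → U ≤ E → TrivOn k U V) :
    ∀ x ∈ E, k * x * k⁻¹ = x := by
  induction hn : Nat.card E using Nat.strong_induction_on generalizing E with
  | _ n IH =>
  subst hn
  rcases hle.eq_or_lt with rfl | hlt
  · exact hZ
  obtain ⟨E₀, hE₀, hmax⟩ := Set.exists_max_image {N : Subgroup G | N.Normal ∧ Z₀ ≤ N ∧ N < E}
    (fun N => Nat.card N) (Set.toFinite _) ⟨Z₀, hZn, le_rfl, hlt⟩
  obtain ⟨hE₀n, hZE₀, hE₀E⟩ := hE₀
  have hch : Cfsg.IsChiefFactor E E₀ := ⟨hE₀E, hEn, hE₀n, fun N hN h1 h2 => by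
    rcases h2.eq_or_lt with rfl | hlt'
    · exact Or.inr rfl
    · exact Or.inl (eq_of_le_of_card_ge h1 (hmax N ⟨hN, hZE₀.trans h1, hlt'⟩)).symm⟩
  have h0 := IH _ (Core.card_lt_of_lt hE₀E) (E := E₀) (hE.to_le hE₀E.le) hZE₀
    (fun U V hUV hV hU => h U V hUV hV (hU.trans hE₀E.le)) rfl
  intro x hx
  refine Control.conj_eq_self_of_coprime (f := QuotientGroup.mk' E₀) hk
    (by rw [QuotientGroup.ker_mk']; exact hE.to_le hE₀E.le)
    (by rw [QuotientGroup.ker_mk']; exact h0) ?_
  have h1 : QuotientGroup.mk' E₀ ⁅k, x⁆ = 1 :=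
    (QuotientGroup.eq_one_iff _).mpr (h E E₀ hch hZE₀ le_rfl x hx)
  rw [commutatorElement_def, map_mul, map_inv, mul_inv_eq_one] at h1
  exact h1

theorem exists_pow_coprime (g : G) : ∃ a : ℕ, (orderOf (g ^ p ^ a)).Coprime p := by
  obtain ⟨a, m, hm, hord⟩ :=
    Nat.exists_eq_pow_mul_and_not_dvd (orderOf_pos g).ne' p hp.out.ne_one
  refine ⟨a, ?_⟩
  rw [orderOf_pow_of_dvd (pow_ne_zero _ hp.out.ne_zero) ⟨m, hord⟩, hord,
    Nat.mul_div_cancel_left _ (pow_pos hp.out.pos a)]
  exact Nat.coprime_comm.mp (hp.out.coprime_iff_not_dvd.mpr hm)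

/-! ### subgroups between `V` and `U` minimal among those invariant under `K` -/

/-- `X` is minimal among the `K`-invariant subgroups of `U` above `V`. -/
def MinInv (K U V X : Subgroup G) : Prop :=
  V < X ∧ X ≤ U ∧ K ≤ normalizer (X : Set G) ∧
    ∀ Y : Subgroup G, V ≤ Y → Y ≤ X → K ≤ normalizer (Y : Set G) → Y = V ∨ Y = X

theorem exists_minInv {K U V : Subgroup G} (hlt : V < U) (hU : K ≤ normalizer (U : Set G)) :
    ∃ X, MinInv K U V X := by
  obtain ⟨X, hX, hmin⟩ := Set.exists_min_image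
    {X : Subgroup G | V < X ∧ X ≤ U ∧ K ≤ normalizer (X : Set G)}
    (fun X => Nat.card X) (Set.toFinite _) ⟨U, hlt, le_rfl, hU⟩
  refine ⟨X, hX.1, hX.2.1, hX.2.2, fun Y h1 h2 h3 => ?_⟩
  rcases h1.eq_or_lt with rfl | hlt'
  · exact Or.inl rfl
  · exact Or.inr (eq_of_le_of_card_ge h2 (hmin Y ⟨hlt', h2.trans hX.2.1, h3⟩))

theorem minInv_conj {K U V X : Subgroup G} (h : MinInv K U V X) {c : G}
    (hK : c ∈ normalizer (K : Set G)) (hU : c ∈ normalizer (U : Set G))
    (hV : c ∈ normalizer (V : Set G)) : MinInv K U V (Control.cjSub c X) := by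
  obtain ⟨h1, h2, h3, h4⟩ := h
  refine ⟨?_, ?_, ?_, fun Y hY1 hY2 hY3 => ?_⟩
  · rw [← Control.cjSub_eq_of_mem hV]
    exact (map_lt_map_iff_of_injective (MulAut.conj c).injective).mpr h1
  · rw [← Control.cjSub_eq_of_mem hU]; exact map_mono h2
  · rw [← Control.cjSub_eq_of_mem hK, ← Control.cjSub_normalizer]; exact map_mono h3
  · have hY : Control.cjSub c (Control.cjSub c⁻¹ Y) = Y := by
      rw [Control.cjSub_cjSub, mul_inv_cancel, Control.cjSub_one]
    have e1 : Control.cjSub c⁻¹ (Control.cjSub c X) = X := by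
      rw [Control.cjSub_cjSub, inv_mul_cancel, Control.cjSub_one]
    rcases h4 (Control.cjSub c⁻¹ Y)
      ((Control.cjSub_eq_of_mem (inv_mem hV)).ge.trans (map_mono hY1))
      ((map_mono hY2).trans e1.le) (by
        rw [← Control.cjSub_eq_of_mem (inv_mem hK), ← Control.cjSub_normalizer]
        exact map_mono hY3) with h5 | h5
    · exact Or.inl (by rw [← hY, h5, Control.cjSub_eq_of_mem hV])
    · exact Or.inr (by rw [← hY, h5])

/-- A chief factor is generated by its minimal `K`-invariant pieces when `K` is the preimage of a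
subgroup of a normal `p`-subgroup of `G / C`. -/
theorem chief_eq_iSup_minInv {U V N C : Subgroup G} [N.Normal] [C.Normal]
    (hch : Cfsg.IsChiefFactor U V) (hN : IsPGroup p (N.map (QuotientGroup.mk' C)))
    {K : Subgroup G} (hCK : C ≤ K) (hKN : K ≤ N) :
    U ≤ ⨆ X ∈ {X | MinInv K U V X}, X := by
  obtain ⟨hlt, hUn, hVn, hmax⟩ := hch
  have hall : ∀ (W : Subgroup G), W.Normal → ∀ K : Subgroup G, K ≤ normalizer (W : Set G) :=
    fun W hW K => by rw [normalizer_eq_top_iff.mpr hW]; exact le_top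
  induction hn : Nat.card G - Nat.card K using Nat.strong_induction_on generalizing K with
  | _ k IH =>
  subst hn
  rcases hKN.eq_or_lt with rfl | hKlt
  · -- `K = N` is normal
    obtain ⟨X, hX⟩ := exists_minInv hlt (hall U hUn _)
    set M := ⨆ X ∈ {X | MinInv K U V X}, X with hM
    have hMn : M.Normal := by
      refine normalizer_eq_top_iff.mp (eq_top_iff.mpr fun c _ => ?_)
      refine Control.mem_normalizer_of_cjSub_eq (eq_of_le_of_card_ge ?_ (Control.card_cjSub c M).ge)
      rw [hM, Control.cjSub]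
      simp only [Subgroup.map_iSup]
      exact iSup₂_le fun Y hY => le_biSup (fun X => X)
        (minInv_conj hY (hall K inferInstance ⊤ (mem_top c)) (hall U hUn ⊤ (mem_top c))
          (hall V hVn ⊤ (mem_top c)))
    have hXM : X ≤ M := le_biSup (fun X => X) hX
    rcases hmax M hMn (hX.1.le.trans hXM) (iSup₂_le fun Y hY => hY.2.1) with h | h
    · exact absurd (hXM.trans h.le) hX.1.not_ge
    · exact h.ge
  · set f := QuotientGroup.mk' C with hf
    have hcm : (K.map f).comap f = K := by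
      rw [comap_map_eq, QuotientGroup.ker_mk', sup_eq_left.mpr hCK]
    have hKf : K.map f < N.map f := lt_of_le_of_ne (map_mono hKN) fun he => hKlt.not_ge (by
      rw [← hcm, he]; exact le_comap_map _ _)
    set K' := N ⊓ normalizer (K : Set G) with hK'
    have hKK' : K < K' := by
      refine lt_of_le_of_ne (le_inf hKN le_normalizer) fun he => ?_
      obtain ⟨y, hy, hyK⟩ :=
        SetLike.exists_of_lt (Fusion.lt_inf_normalizer_of_isPGroup hN hKf)
      obtain ⟨x, hx, rfl⟩ := hy.1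
      refine hyK (mem_map_of_mem f (he ▸ mem_inf.mpr ⟨hx, ?_⟩))
      have hxc : x ∈ (normalizer (K.map f : Set (G ⧸ C))).comap f := hy.2
      rw [← hcm]
      exact le_normalizer_comap f hxc
    have hcard := Core.card_lt_of_lt hKK'
    have hIH := IH (Nat.card G - Nat.card K') (by
      have := Nat.le_of_dvd Nat.card_pos (card_subgroup_dvd_card K'); omega)
      (hCK.trans hKK'.le) inf_le_left rfl
    refine hIH.trans (iSup₂_le fun X' hX' => ?_)
    obtain ⟨Y, hY⟩ := exists_minInv (K := K) hX'.1 (hKK'.le.trans hX'.2.2.1)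
    set M := ⨆ Z ∈ {Z | MinInv K X' V Z}, Z with hM
    have hMinv : K' ≤ normalizer (M : Set G) := by
      intro c hc
      refine Control.mem_normalizer_of_cjSub_eq (eq_of_le_of_card_ge ?_ (Control.card_cjSub c M).ge)
      rw [hM, Control.cjSub]
      simp only [Subgroup.map_iSup]
      exact iSup₂_le fun Z hZ => le_biSup (fun X => X)
        (minInv_conj hZ hc.2 (hX'.2.2.1 hc) (hall V hVn K' hc))
    have hYM : Y ≤ M := le_biSup (fun X => X) hY
    have hMle : M ≤ ⨆ X ∈ {X | MinInv K U V X}, X := iSup₂_le fun Z hZ => le_biSup (fun X => X)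
      (⟨hZ.1, hZ.2.1.trans hX'.2.1, hZ.2.2⟩ : MinInv K U V Z)
    rcases hX'.2.2.2 M (hY.1.le.trans hYM) (iSup₂_le fun Z hZ => hZ.2.1) hMinv with h | h
    · exact absurd (hYM.trans h.le) hY.1.not_ge
    · exact h.ge.trans hMle

end Cfsg.Agent.KInf
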