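import Cfsg.Agent.KInf.Independence
import Cfsg.Agent.KInf.Series
import Cfsg.Agent.KInf.Stabilizer
import Cfsg.Agent.Fusion.Residual

/-!
# Sections of groups with an abelian `p'`-layer below a `p`-group are `p`-stable
-/

namespace Cfsg.Agent.KInf

open Subgroup
open scoped commutatorElement

set_option linter.unusedSectionVars false

universe u

variable {p : ℕ} [hp : Fact p.Prime]

/-- A normal subgroup inducing a `p`-group of automorphisms on a minimal normal `p`-subgroup
centralises it. -/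
theorem le_centralizer_of_pPower {G : Type u} [Group G] [Finite G] {P : Subgroup G} [P.Normal]
    (hP : IsPGroup p P) (hmin : Core.IsMinNormal P) {D : Subgroup G} [D.Normal]
    (hD : ∀ d ∈ D, ∃ a : ℕ, d ^ p ^ a ∈ centralizer (P : Set G)) :
    D ≤ centralizer (P : Set G) := by
  let ρ : G →* MulAut P := MulAut.conjNormal
  have hker : ∀ {c : G}, c ∈ centralizer (P : Set G) → ρ c = 1 := fun {c} hc =>
    MulEquiv.ext fun x => Subtype.ext (by
      rw [MulAut.conjNormal_apply, ← mem_centralizer_iff.mp hc x x.2, mul_inv_cancel_right]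
      rfl)
  have hL : IsPGroup p (D.map ρ) := by
    rintro ⟨_, d, hd, rfl⟩
    obtain ⟨a, ha⟩ := hD d hd
    exact ⟨a, Subtype.ext (by simpa using hker ha)⟩
  have hdvd : p ∣ Nat.card P :=
    have : Nontrivial P := (nontrivial_iff_ne_bot P).mpr hmin.ne_bot
    let ⟨n, hn, hcard⟩ := (IsPGroup.nontrivial_iff_card hP).mp this
    hcard ▸ dvd_pow_self p hn.ne'
  obtain ⟨u, hu, hu1⟩ := hL.exists_fixed_point_of_prime_dvd_card_of_fixed_point (α := P) hdvd
    (a := 1) fun l => map_one (l : MulAut P)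
  have hmem : (u : G) ∈ P ⊓ centralizer (D : Set G) := mem_inf.mpr ⟨u.2, mem_centralizer_iff.mpr
    fun d hd => by
      have h1 := hu ⟨ρ d, mem_map_of_mem ρ hd⟩
      have h2 : d * (u : G) * d⁻¹ = u := by
        rw [← MulAut.conjNormal_apply]; exact congrArg Subtype.val h1
      exact mul_inv_eq_iff_eq_mul.mp h2⟩
  rcases hmin.eq_of_le (P ⊓ centralizer (D : Set G)) inferInstance inf_le_left with h | h
  · rw [h, mem_bot] at hmem
    exact absurd (Subtype.ext hmem).symm hu1
  · exact le_centralizer_iff.mp (h.ge.trans inf_le_right)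

/-! ### endomorphisms of an abelian normal subgroup -/

open scoped IsMulCommutative in
/-- Conjugation on an abelian normal subgroup, in the endomorphism ring. -/
def conjEnd {G : Type u} [Group G] (N : Subgroup G) [N.Normal] [IsMulCommutative N] :
    G →* AddMonoid.End (Additive N) where
  toFun g := MonoidHom.toAdditive (MulAut.conjNormal (H := N) g).toMonoidHom
  map_one' := AddMonoidHom.ext fun x => Additive.toMul.injective (Subtype.ext
    (show (1 : G) * ((Additive.toMul x : N) : G) * (1 : G)⁻¹ = ((Additive.toMul x : N) : G) by simp))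
  map_mul' g h := AddMonoidHom.ext fun x => Additive.toMul.injective (Subtype.ext
    (show g * h * ((Additive.toMul x : N) : G) * (g * h)⁻¹ =
      g * (h * ((Additive.toMul x : N) : G) * h⁻¹) * g⁻¹ by simp [mul_assoc]))

theorem conjEnd_eq_one {G : Type u} [Group G] {N : Subgroup G} [N.Normal] [IsMulCommutative N]
    {g : G} : conjEnd N g = 1 ↔ g ∈ centralizer (N : Set G) := by
  rw [mem_centralizer_iff]
  constructor
  · intro h n hn
    have h1 := congrArg Subtype.val (congrArg Additive.toMul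
      (DFunLike.congr_fun h (Additive.ofMul (⟨n, hn⟩ : N))))
    change g * n * g⁻¹ = n at h1
    exact (mul_inv_eq_iff_eq_mul.mp h1).symm
  · intro h
    refine AddMonoidHom.ext fun x => Additive.toMul.injective (Subtype.ext ?_)
    change g * ((Additive.toMul x : N) : G) * g⁻¹ = ((Additive.toMul x : N) : G)
    rw [← h _ (Additive.toMul x).2, mul_inv_cancel_right]

open scoped IsMulCommutative in
/-- An element of order `p` modulo the kernel with vanishing trace centralises, modulo the kernel, a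
normal set of commuting `p'`-elements. -/
theorem commutator_mem_centralizer {G : Type u} [Group G] [Finite G] {N : Subgroup G} [N.Normal]
    [IsMulCommutative N] (hexp : ∀ x ∈ N, x ^ p = 1) {M : Subgroup G} [M.Normal] {m : ℕ}
    (hm : 0 < m) (hcop : m.Coprime p)
    (hMcomm : ∀ a ∈ M, ∀ b ∈ M, ⁅a, b⁆ ∈ centralizer (N : Set G))
    (hMexp : ∀ a ∈ M, a ^ m ∈ centralizer (N : Set G)) {s : G}
    (hsp : s ^ p ∈ centralizer (N : Set G))
    (hit : Cfsg.iterCommutator N (zpowers s) (p - 1) = ⊥) {k : G} (hk : k ∈ M) :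
    ⁅s, k⁆ ∈ centralizer (N : Set G) := by
  set ε := conjEnd N with hε
  have hker : ∀ {c : G}, c ∈ centralizer (N : Set G) → ε c = 1 := fun hc => conjEnd_eq_one.mpr hc
  have h0 : ((p : ℕ) : AddMonoid.End (Additive N)) = 0 := by
    refine AddMonoidHom.ext fun x => ?_
    change p • x = 0
    exact Additive.toMul.injective (Subtype.ext (by simpa using hexp _ (Additive.toMul x).2))
  have hsum : ∑ i ∈ Finset.range p, ε s ^ i = 0 := by
    refine AddMonoidHom.ext fun x => ?_
    have happ : ∀ t : Finset ℕ, (∑ i ∈ t, ε s ^ i) x = ∑ i ∈ t, (ε s ^ i) x := by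
      intro t
      induction t using Finset.induction_on with
      | empty => rfl
      | insert a t ha ih => rw [Finset.sum_insert ha, Finset.sum_insert ha, ← ih]; rfl
    refine (happ _).trans ?_
    refine Additive.toMul.injective ?_
    rw [toMul_sum]
    refine Eq.trans (Finset.prod_congr rfl fun i _ => ?_)
      (Control.prod_conj_eq_one_aux N hexp s hit (Additive.toMul x))
    rw [← map_pow]
    rfl
  have hs1 : ε s ^ p = 1 := by rw [← map_pow]; exact hker hsp
  have hcomm : ∀ a ∈ ε '' (M : Set G), ∀ b ∈ ε '' (M : Set G), a * b = b * a := by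
    rintro _ ⟨a, ha, rfl⟩ _ ⟨b, hb, rfl⟩
    rw [← map_mul, ← map_mul, show a * b = ⁅a, b⁆ * (b * a) by
      rw [commutatorElement_def]; group, map_mul, hker (hMcomm a ha b hb), one_mul]
  have hp1 : p - 1 + 1 = p := Nat.succ_pred_eq_of_pos hp.out.pos
  have hconj : ∀ a ∈ ε '' (M : Set G), ε s * a * ε s ^ (p - 1) ∈ ε '' (M : Set G) := by
    rintro _ ⟨a, ha, rfl⟩
    refine ⟨s * a * s⁻¹, (‹M.Normal›).conj_mem a ha s, ?_⟩
    rw [← map_pow, ← map_mul, ← map_mul]
    have e : s * a * s ^ (p - 1) = s * a * s⁻¹ * s ^ p := by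
      conv_rhs => rw [← hp1, pow_succ']
      group
    rw [e, map_mul _ (s * a * s⁻¹), hker hsp, mul_one]
  have hc := commute_of_sum_pow_eq_zero h0 hs1 hsum hcomm hconj ⟨k, hk, rfl⟩
    (m := m) (by rw [← map_pow]; exact hker (hMexp k hk)) hm hcop
  refine conjEnd_eq_one.mp ?_
  rw [← hε, commutatorElement_def, mul_assoc (s * k), map_mul, map_mul, hc.eq, ← map_mul, ← map_mul]
  simp [mul_assoc]

/-- `X` has normal subgroups `O ≤ M` with `O` a `p`-group, `M / O` abelian of exponent prime to `p`,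
and `X / M` a `p`-group. -/
def AbTop (p : ℕ) (X : Type u) [Group X] : Prop :=
  ∃ O M : Subgroup X, O.Normal ∧ M.Normal ∧ IsPGroup p O ∧ ∃ m : ℕ, 0 < m ∧ m.Coprime p ∧
    (∀ a ∈ M, ∀ b ∈ M, ⁅a, b⁆ ∈ O) ∧ (∀ a ∈ M, a ^ m ∈ O) ∧ ∀ x : X, ∃ a : ℕ, x ^ p ^ a ∈ M

theorem AbTop.subgroup {X : Type u} [Group X] (h : AbTop p X) (H : Subgroup X) : AbTop p H := by
  obtain ⟨O, M, hO, hM, hOp, m, hm, hcop, hc, he, hx⟩ := h
  exact ⟨O.subgroupOf H, M.subgroupOf H, Normal.subgroupOf hO H, Normal.subgroupOf hM H,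
    hOp.comap_subtype (K := H), m, hm, hcop, fun a ha b hb => hc a ha b hb, fun a ha => he a ha,
    fun x => hx (x : X)⟩

theorem AbTop.map {X Y : Type u} [Group X] [Group Y] (h : AbTop p X) {f : X →* Y}
    (hf : Function.Surjective f) : AbTop p Y := by
  obtain ⟨O, M, hO, hM, hOp, m, hm, hcop, hc, he, hx⟩ := h
  refine ⟨O.map f, M.map f, hO.map f hf, hM.map f hf, hOp.map f, m, hm, hcop, ?_, ?_, fun y => ?_⟩
  · rintro _ ⟨a, ha, rfl⟩ _ ⟨b, hb, rfl⟩
    exact ⟨⁅a, b⁆, hc a ha b hb, map_commutatorElement f a b⟩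
  · rintro _ ⟨a, ha, rfl⟩
    exact ⟨a ^ m, he a ha, map_pow f a m⟩
  · obtain ⟨x, rfl⟩ := hf y
    obtain ⟨a, ha⟩ := hx x
    exact ⟨a, x ^ p ^ a, ha, map_pow f x _⟩

theorem AbTop.isSec {X Y : Type u} [Group X] [Group Y] (h : AbTop p X) (hY : Control.IsSec Y X) :
    AbTop p Y := by
  obtain ⟨K, f, hf⟩ := hY
  exact (h.subgroup K).map hf

/-- Elements killing a chief factor inside a `p`-group in `p - 1` steps act trivially on it. -/
theorem trivOn_of_abTop {X : Type u} [Group X] [Finite X] (h : AbTop p X) {U V : Subgroup X}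
    (hch : Cfsg.IsChiefFactor U V) (hU : IsPGroup p U) {g : X}
    (hit : Cfsg.iterCommutator U (zpowers g) (p - 1) ≤ V) : TrivOn g U V := by
  obtain ⟨-, -, hVn, -⟩ := id hch
  obtain ⟨O, M, hOn, hMn, hOp, m, hm, hcop, hMc, hMe, hMp⟩ := h
  set π := QuotientGroup.mk' V with hπ
  have hπs := QuotientGroup.mk'_surjective V
  have hminU := Control.isMinNormal_image hch
  have hUbn := hminU.normal
  obtain ⟨hcommU, hexpU⟩ := Control.image_facts hch hU
  set Ub := U.map π
  set C := centralizer (Ub : Set (X ⧸ V))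
  set K := C.comap π with hKdef
  have hKn : K.Normal := Normal.comap inferInstance π
  rw [trivOn_iff]
  change g ∈ K
  have hK_of : ∀ D : Subgroup X, D.Normal → (∀ d ∈ D, ∃ a : ℕ, d ^ p ^ a ∈ K) → D ≤ K := by
    intro D hD hDp
    have : (D.map π).Normal := hD.map π hπs
    refine map_le_iff_le_comap.mp (le_centralizer_of_pPower (hU.map π) hminU ?_)
    rintro _ ⟨d, hd, rfl⟩
    obtain ⟨a, ha⟩ := hDp d hd
    exact ⟨a, by rw [← map_pow]; exact ha⟩
  have hOK : O ≤ K := hK_of O hOn fun d hd => by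
    obtain ⟨a, ha⟩ := hOp ⟨d, hd⟩
    refine ⟨a, ?_⟩
    rw [show d ^ p ^ a = 1 from congrArg Subtype.val ha]
    exact one_mem K
  have hit' : Cfsg.iterCommutator Ub (zpowers (π g)) (p - 1) = ⊥ := by
    rw [← MonoidHom.map_zpowers, ← Control.map_iterCommutator, Subgroup.map_eq_bot_iff,
      QuotientGroup.ker_mk']
    exact hit
  -- `g ^ p` acts trivially
  have hgp : g ^ p ∈ K := by
    show π (g ^ p) ∈ C
    have h0 : ∀ u : Ub, MulAut.conjNormal (H := Ub) (π g ^ p) u = u := by
      intro u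
      open scoped IsMulCommutative in
      have h1 := Control.prod_conj_eq_one_aux Ub hexpU (π g) hit' u
      open scoped IsMulCommutative in
      have h2 := congrArg (MulAut.conjNormal (H := Ub) (π g)) h1
      open scoped IsMulCommutative in
      simp only [map_prod, map_one, ← MulAut.mul_apply, ← map_mul, ← pow_succ'] at h2
      open scoped IsMulCommutative in
      have h3 := (Finset.prod_range_succ' (fun i => MulAut.conjNormal (H := Ub) (π g ^ i) u) p).symm.trans
        (Finset.prod_range_succ (fun i => MulAut.conjNormal (H := Ub) (π g ^ i) u) p)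
      rw [h2, h1, pow_zero, map_one, MulAut.one_apply, one_mul, one_mul] at h3
      exact h3.symm
    refine mem_centralizer_iff.mpr fun u hu => ?_
    have h4 := congrArg Subtype.val (h0 ⟨u, hu⟩)
    rw [MulAut.conjNormal_apply] at h4
    rw [map_pow]
    exact (mul_inv_eq_iff_eq_mul.mp h4).symm
  -- pass to the `p`-part
  obtain ⟨a, n, hn, hord⟩ := Nat.exists_eq_pow_mul_and_not_dvd (orderOf_pos g).ne' p hp.out.ne_one
  set s := g ^ n with hs
  suffices hsK : s ∈ K by
    have hcop' : Nat.Coprime n p := Nat.coprime_comm.mp (hp.out.coprime_iff_not_dvd.mpr hn)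
    have h1 : (QuotientGroup.mk' K g) ^ n = 1 := by
      rw [← map_pow]; exact (QuotientGroup.eq_one_iff _).mpr hsK
    have h2 : (QuotientGroup.mk' K g) ^ p = 1 := by
      rw [← map_pow]; exact (QuotientGroup.eq_one_iff _).mpr hgp
    have h3 := pow_gcd_eq_one.mpr ⟨h1, h2⟩
    rw [hcop'.gcd_eq_one, pow_one] at h3
    exact (QuotientGroup.eq_one_iff g).mp h3
  have hn0 : n ≠ 0 := fun h => hn (by rw [h]; exact dvd_zero p)
  have hsP : IsPGroup p (zpowers s) := by
    refine IsPGroup.of_card (n := a) ?_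
    rw [Nat.card_zpowers, hs, orderOf_pow_of_dvd hn0
      ⟨p ^ a, by rw [hord, mul_comm]⟩, hord, Nat.mul_div_cancel _ (Nat.pos_of_ne_zero hn0)]
  obtain ⟨S, hS⟩ := hsP.exists_le_sylow
  have htop : (S : Subgroup X) ⊔ M = ⊤ := Fusion.sylow_sup_eq_top_of_isPGroup_quotient S M
    fun z => by
      obtain ⟨x, rfl⟩ := QuotientGroup.mk_surjective z
      obtain ⟨a, ha⟩ := hMp x
      exact ⟨a, by rw [← QuotientGroup.mk_pow, QuotientGroup.eq_one_iff]; exact ha⟩
  have hMπ : (M.map π).Normal := hMn.map π hπs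
  have hspi : π s ^ p ∈ C := by
    rw [← map_pow, hs, ← pow_mul, mul_comm, pow_mul]
    exact (pow_mem hgp n : (g ^ p) ^ n ∈ K)
  have hmove : ∀ k ∈ M, ⁅s, k⁆ ∈ K := by
    intro k hk
    show π ⁅s, k⁆ ∈ C
    rw [map_commutatorElement]
    refine commutator_mem_centralizer (N := Ub) (M := M.map π) hexpU hm hcop ?_ ?_ hspi ?_
      (mem_map_of_mem π hk)
    · rintro _ ⟨a, ha, rfl⟩ _ ⟨b, hb, rfl⟩
      rw [← map_commutatorElement]
      exact hOK (hMc a ha b hb)
    · rintro _ ⟨a, ha, rfl⟩
      rw [← map_pow]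
      exact hOK (hMe a ha)
    · refine le_bot_iff.mp (le_trans ?_ hit'.le)
      have hzle : zpowers (π s) ≤ zpowers (π g) :=
        zpowers_le.mpr (by rw [hs, map_pow]; exact pow_mem (mem_zpowers _) n)
      induction p - 1 with
      | zero => exact le_rfl
      | succ j ih => exact commutator_mono ih hzle
  set κ := QuotientGroup.mk' K with hκ
  have hκs := QuotientGroup.mk'_surjective K
  set L := (S : Subgroup X).map κ ⊓ centralizer (M.map κ : Set (X ⧸ K))
  have hMκ : (M.map κ).Normal := hMn.map κ hκs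
  have hLn : L.Normal := by
    rw [← normalizer_eq_top_iff, eq_top_iff, ← Subgroup.map_top_of_surjective κ hκs, ← htop,
      Subgroup.map_sup]
    refine sup_le (fun y hy => mem_normalizer_iff.mpr fun z => ?_) ?_
    · have hn : (centralizer (M.map κ : Set (X ⧸ K))).Normal := inferInstance
      rw [mem_inf, mem_inf, mem_normalizer_iff.mp (le_normalizer hy) z,
        hn.mem_comm_iff (a := y * z) (b := y⁻¹), inv_mul_cancel_left]
    · exact (le_centralizer_iff.mp (inf_le_right : L ≤ _)).trans (centralizer_le_normalizer _)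
  have hsL : κ s ∈ L := mem_inf.mpr ⟨mem_map_of_mem κ (hS (mem_zpowers s)), mem_centralizer_iff.mpr (by
    rintro _ ⟨k, hk, rfl⟩
    refine (commutatorElement_eq_one_iff_mul_comm.mp ?_).symm
    rw [← map_commutatorElement]
    exact (QuotientGroup.eq_one_iff _).mpr (hmove k hk))⟩
  refine hK_of (L.comap κ) (hLn.comap κ) (fun d hd => ?_) hsL
  obtain ⟨d', hd', hde⟩ := (mem_inf.mp (mem_comap.mp hd)).1
  obtain ⟨b, hb⟩ := S.2 ⟨d', hd'⟩
  refine ⟨b, (QuotientGroup.eq_one_iff _).mp (show κ (d ^ p ^ b) = 1 from ?_)⟩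
  rw [map_pow, ← hde, ← map_pow, show d' ^ p ^ b = 1 from congrArg Subtype.val hb, map_one]

/-- A group with an abelian `p'`-layer below a `p`-group is `p`-stable for odd `p`. -/
theorem isNormalizerPStable_of_abTop {X : Type u} [Group X] [Finite X] (h : AbTop p X) (h2 : p ≠ 2) :
    Cfsg.IsNormalizerPStable p X := by
  intro P hP g hg hq
  have h2' : 2 ≤ p - 1 := by have := hp.out.two_le; omega
  set N := normalizer (P : Set X) with hNdef
  set P' := P.subgroupOf N with hP'
  have hP'n : P'.Normal := normal_in_normalizer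
  have hP'map : P'.map N.subtype = P := map_subgroupOf_eq_of_le le_normalizer
  have hP'p : IsPGroup p P' := hP.comap_subtype (K := N)
  set g' : N := ⟨g, hg⟩
  have hq' : ⁅⁅P', zpowers g'⁆, zpowers g'⁆ = ⊥ := by
    rw [← map_eq_bot_iff_of_injective _ N.subtype_injective, map_commutator, map_commutator,
      MonoidHom.map_zpowers, hP'map]
    exact hq
  set K := kerOn (G := N) fun U _ => U ≤ P'
  have hgK : g' ∈ K := fun U V hUV hU =>
    haveI := hUV.2.1
    trivOn_of_abTop (h.subgroup N) hUV (hP'p.to_le hU)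
      ((iter_anti U _ h2').trans (((iter_mono hU _ 2).trans hq'.le).trans bot_le))
  set C := (centralizer (P : Set X)).subgroupOf N
  refine Core.le_pCore (hN := (inferInstance : K.Normal).map (QuotientGroup.mk' C)
    (QuotientGroup.mk'_surjective C)) ?_ (mem_map_of_mem (QuotientGroup.mk' C) hgK)
  rintro ⟨_, x, hx, rfl⟩
  obtain ⟨a, ha⟩ := exists_pow_coprime (p := p) x
  refine ⟨a, Subtype.ext ?_⟩
  change (QuotientGroup.mk' C x) ^ p ^ a = 1
  rw [← map_pow]
  refine (QuotientGroup.eq_one_iff _).mpr (mem_centralizer_iff.mpr fun z hz => ?_)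
  have := centralizes_of_trivOn (Z₀ := (⊥ : Subgroup N)) hP'p bot_le ha
    (fun w hw => by rw [mem_bot.mp hw, mul_one, mul_inv_cancel])
    (fun U V hUV _ hU => pow_mem hx (p ^ a) U V hUV hU) ⟨z, le_normalizer hz⟩ hz
  exact (mul_inv_eq_iff_eq_mul.mp (congrArg Subtype.val this)).symm

end Cfsg.Agent.KInf
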