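import Cfsg.Agent.KInf.Main
import Cfsg.Agent.Control.TransferStep

/-!
# Control of transfer and of fusion by the K-infinity subgroups
-/

namespace Cfsg.Agent.KInf

open Subgroup
open scoped commutatorElement

set_option linter.unusedSectionVars false

universe u

theorem isNormalizerPStable_congr {X Y : Type u} [Group X] [Group Y] {p : ℕ} (e : X ≃* Y)
    (h : Cfsg.IsNormalizerPStable p X) : Cfsg.IsNormalizerPStable p Y := by
  intro P hP g hg hq
  set P' := P.map e.symm.toMonoidHom with hP'
  have hPP : P'.map e.toMonoidHom = P := by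
    rw [hP', map_map, show e.toMonoidHom.comp e.symm.toMonoidHom = MonoidHom.id Y from
      MonoidHom.ext e.apply_symm_apply, Subgroup.map_id]
  have hN : (normalizer (P' : Set X)).map e.toMonoidHom = normalizer (P : Set Y) := by
    rw [map_equiv_normalizer_eq, hPP]
  have hmem : ∀ z ∈ P', e z ∈ P := fun z hz => hPP ▸ mem_map_of_mem e.toMonoidHom hz
  set g' := e.symm g with hg'
  have hgN : g' ∈ normalizer (P' : Set X) := by
    rw [← mem_map_iff_mem (f := e.toMonoidHom) e.injective, hN]
    simpa [g'] using hg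
  have hq' : ⁅⁅P', zpowers g'⁆, zpowers g'⁆ = ⊥ := by
    rw [← map_eq_bot_iff_of_injective _ (f := e.toMonoidHom) e.injective, map_commutator,
      map_commutator, hPP, MonoidHom.map_zpowers]
    simpa [g'] using hq
  have h' := h P' (hP.map _) g' hgN hq'
  let φ : normalizer (P' : Set X) ≃* normalizer (P : Set Y) :=
    (e.subgroupMap _).trans (MulEquiv.subgroupCongr hN)
  have hφ : ∀ x, (φ x : Y) = e x := fun x => rfl
  let ψ : _ ≃* _ := QuotientGroup.congr ((centralizer (P' : Set X)).subgroupOf (normalizer (P' : Set X)))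
    ((centralizer (P : Set Y)).subgroupOf (normalizer (P : Set Y))) φ (by
      ext ⟨y, hy⟩
      rw [Subgroup.mem_map]
      simp only [mem_subgroupOf]
      constructor
      · rintro ⟨x, hx, hxy⟩
        rw [← show e (x : X) = y from congrArg Subtype.val hxy]
        refine mem_centralizer_iff.mpr fun z hz => ?_
        rw [SetLike.mem_coe, ← hPP] at hz
        obtain ⟨z, hz, rfl⟩ := hz
        change e z * e x = e x * e z
        rw [← map_mul, mem_centralizer_iff.mp hx z hz, map_mul]
      · intro hyc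
        refine ⟨φ.symm ⟨y, hy⟩, mem_centralizer_iff.mpr fun z hz => e.injective ?_, φ.apply_symm_apply _⟩
        rw [map_mul, map_mul, ← hφ, φ.apply_symm_apply]
        exact mem_centralizer_iff.mp hyc (e z) (hmem z hz))
  have h2 := mem_map_of_mem ψ.toMonoidHom h'
  rw [Core.map_pCore] at h2
  convert h2 using 1
  exact congrArg QuotientGroup.mk (Subtype.ext (e.apply_symm_apply g).symm)

variable {p : ℕ} [hp : Fact p.Prime]

/-- The functor `W` is one of the two K-infinity functors. -/
def IsKFunctor (W : ∀ (Q : Type u) [Group Q], Subgroup Q) : Prop :=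
  W = Cfsg.kInfLower ∨ W = Cfsg.kInfUpper

theorem IsKFunctor.lower : IsKFunctor.{u} Cfsg.kInfLower := Or.inl rfl

theorem IsKFunctor.upper : IsKFunctor.{u} Cfsg.kInfUpper := Or.inr rfl

theorem IsKFunctor.isCharPFunctor {W : ∀ (Q : Type u) [Group Q], Subgroup Q} (hW : IsKFunctor W) :
    Cfsg.IsCharPFunctor.{u} p W := by
  rcases hW with rfl | rfl
  · exact isCharPFunctor_kInfLower p
  · exact isCharPFunctor_kInfUpper p

theorem IsKFunctor.hasSmallDegree {W : ∀ (Q : Type u) [Group Q], Subgroup Q} (hW : IsKFunctor W)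
    {G : Type u} [Group G] [Finite G] (S : Sylow p G)
    (h : ¬ (Cfsg.inducedFunctor W (S : Subgroup G)).Normal) :
    ¬ (Cfsg.inducedFunctor Cfsg.kInfLower (S : Subgroup G)).Normal ∨
      ¬ (Cfsg.inducedFunctor Cfsg.kInfUpper (S : Subgroup G)).Normal := by
  rcases hW with rfl | rfl
  · exact Or.inl h
  · exact Or.inr h

/-- For `p ≥ 5` the K-infinity subgroups control transfer in every section. -/
theorem gTr_kInf {W : ∀ (Q : Type u) [Group Q], Subgroup Q} (hW : IsKFunctor W) (h5 : 5 ≤ p)
    {G : Type u} [Group G] [Finite G] {Y : Type u} [Group Y] [Finite Y] (hY : Control.IsSec Y G) :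
    Control.GTr {W} p Y := by
  have hF : ∀ V ∈ ({W} : Set (∀ (Q : Type u) [Group Q], Subgroup Q)), Cfsg.IsCharPFunctor.{u} p V :=
    fun V hV => hV ▸ hW.isCharPFunctor
  refine Control.gTr_of_quotients hF (fun K' R' _ hc IH => ?_) hY
  obtain ⟨T⟩ := (inferInstance : Nonempty (Sylow p (↥K' ⧸ R'.subgroupOf K')))
  refine Control.famTr_iff.mpr ⟨_, Control.sylIn_top T, ?_⟩
  by_cases hn : (Cfsg.inducedFunctor (G := (↥K' ⧸ R'.subgroupOf K')) W
      (T : Subgroup (↥K' ⧸ R'.subgroupOf K'))).Normal
  · exact Control.trCtrl_of_normal hF rfl T hn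
  obtain ⟨hlt, hproper⟩ := Control.proper_normalizer_of_not_normal hF rfl T hn
  obtain ⟨g, hgT, hgQ, hg, -, -⟩ := exists_small_degree T (hW.hasSmallDegree T hn)
  have hQ : Cfsg.pCore p (↥K' ⧸ R'.subgroupOf K') ≠ ⊥ := fun h0 => by
    rw [h0] at hc hgQ
    refine hgQ (hc (mem_centralizer_iff.mpr fun y hy => ?_))
    rw [mem_bot.mp hy, one_mul, mul_one]
  have hsub := fun (H : Subgroup (↥K' ⧸ R'.subgroupOf K')) (hH : H ≠ ⊤) hTH =>
    Control.trCtrl_subgroup hF T hTH (IH H (Control.isSec_subgroup H) (Core.card_lt_of_ne_top hH))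
  exact Control.trCtrl_of_inf_commutator hF hlt hsub
    (IH _ (Control.isSec_of_surjective (QuotientGroup.mk'_surjective _)) (Core.card_quotient_lt hQ))
    (Control.inf_commutator_le_of_good hlt hsub hproper hgT hgQ (hg.mono_nat (by omega)))

theorem controlsTransferIn_kInf {W : ∀ (Q : Type u) [Group Q], Subgroup Q} (hW : IsKFunctor W)
    (h5 : 5 ≤ p) (G : Type u) [Group G] [Finite G] :
    Cfsg.ControlsTransferIn p (Cfsg.inducedFunctor (G := G) W) ⊤ := by
  refine Control.tr_iff_family.mpr ?_
  have h := gTr_kInf hW h5 (Control.IsSec.refl (X := G))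
  simpa only [Control.GTr, Control.iF, Set.image_singleton] using h

theorem inf_commutator_kInf {W : ∀ (Q : Type u) [Group Q], Subgroup Q} (hW : IsKFunctor W)
    (h5 : 5 ≤ p) {G : Type u} [Group G] [Finite G] (S : Sylow p G) :
    (S : Subgroup G) ⊓ commutator G = (S : Subgroup G) ⊓
      ⁅normalizer ((Cfsg.inducedFunctor W (S : Subgroup G) : Subgroup G) : Set G),
        normalizer ((Cfsg.inducedFunctor W (S : Subgroup G) : Subgroup G) : Set G)⁆ := by
  have hF : ∀ V ∈ ({W} : Set (∀ (Q : Type u) [Group Q], Subgroup Q)), Cfsg.IsCharPFunctor.{u} p V :=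
    fun V hV => hV ▸ hW.isCharPFunctor
  have h := (Control.famTr_iff_forall (Control.isConjugacyFunctor_iF hF)
    (Control.sylIn_top S)).mp (gTr_kInf hW h5 (Control.IsSec.refl (X := G)))
  rw [Control.TrCtrl, ← _root_.commutator_def] at h
  refine le_antisymm (le_inf inf_le_left (h.trans (iSup₂_le ?_))) (le_inf inf_le_left ?_)
  · rintro _ ⟨_, ⟨V, hV, rfl⟩, rfl⟩
    refine inf_le_right.trans ?_
    rw [Set.mem_singleton_iff.mp hV]
    exact commutator_mono inf_le_right inf_le_right
  · exact inf_le_right.trans ((commutator_mono le_top le_top).trans (_root_.commutator_def G).ge)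

/-- In a constrained group with all quotients `p`-stable the K-infinity subgroups of a Sylow
`p`-subgroup are normal. -/
theorem kInf_normal_of_pStable {W : ∀ (Q : Type u) [Group Q], Subgroup Q} (hW : IsKFunctor W)
    {G : Type u} [Group G] [Finite G]
    (hC : centralizer (Cfsg.pCore p G : Set G) ≤ Cfsg.pCore p G)
    (hst : ∀ (N : Subgroup G) [N.Normal], Cfsg.IsNormalizerPStable p (G ⧸ N)) (S : Sylow p G) :
    (Cfsg.inducedFunctor W (S : Subgroup G)).Normal := by
  by_contra h
  obtain ⟨g, -, -, -, -, hN⟩ := exists_small_degree_not_pStable S (hW.hasSmallDegree S h)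
  obtain ⟨N, hNn, hN'⟩ := hN hC
  exact hN' (hst N)

/-- If all sections are `p`-stable the K-infinity subgroups control strong fusion. -/
theorem controlsStrongFusion_kInf {W : ∀ (Q : Type u) [Group Q], Subgroup Q} (hW : IsKFunctor W)
    {G : Type u} [Group G] [Finite G]
    (hst : ∀ (K R : Subgroup G) [(R.subgroupOf K).Normal],
      Cfsg.IsNormalizerPStable p (↥K ⧸ R.subgroupOf K)) (S : Sylow p G) :
    Cfsg.ControlsStrongFusion p (Cfsg.inducedFunctor W (S : Subgroup G)) := by
  have hF : ∀ V ∈ ({W} : Set (∀ (Q : Type u) [Group Q], Subgroup Q)), Cfsg.IsCharPFunctor.{u} p V :=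
    fun V hV => hV ▸ hW.isCharPFunctor
  have key : Control.GFus {W} p G := by
    refine Control.gFus_of_quotients hF (fun K' R' _ hc => ?_) Control.IsSec.refl
    obtain ⟨T'⟩ := (inferInstance : Nonempty (Sylow p (↥K' ⧸ R'.subgroupOf K')))
    refine Control.famFus_iff.mpr ⟨_, Control.sylIn_top T', fun A g _ _ hgA =>
      Control.Ctrl.of_mem ⟨_, ⟨W, rfl, rfl⟩, rfl⟩ ⟨mem_top g, ?_⟩ hgA⟩
    rw [normalizer_eq_top_iff.mpr (kInf_normal_of_pStable hW hc (fun N _ => ?_) T')]
    · exact mem_top g
    · refine Control.of_sections (P := fun Z _ => Cfsg.IsNormalizerPStable p Z)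
        (fun _ _ _ _ e h => isNormalizerPStable_congr e h) hst
        ((Control.isSec_of_surjective (QuotientGroup.mk'_surjective N)).trans
          (Control.isSec_quotient K' R'))
  have hc := Control.isConjugacyFunctor_induced (p := p) (X := G) hW.isCharPFunctor
  refine ⟨S, (hc _ S.2).1, fun A hA => ⟨hA, fun g hg => ?_⟩⟩
  obtain ⟨c, hcR, hce⟩ := (Control.famFus_iff_forall (Control.isConjugacyFunctor_iF hF)
    (Control.sylIn_top S)).mp key A g (mem_top g) hA hg
  refine ⟨c, hcR.mem (fun N hN => ?_), fun a ha => (hce a ha).symm⟩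
  obtain ⟨_, ⟨V, hV, rfl⟩, rfl⟩ := hN
  rw [Set.mem_singleton_iff.mp hV]
  exact inf_le_right

end Cfsg.Agent.KInf
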