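import Cfsg.Agent.KInf.Key
import Cfsg.Agent.Core.Frattini
import Cfsg.Agent.Fusion.Critical

/-!
# Elements of small degree of nilpotence on `O_p(G)` outside `O_p(G)`
-/

namespace Cfsg.Agent.KInf

open Subgroup
open scoped commutatorElement

set_option linter.unusedSectionVars false

universe u

variable {G : Type u} [Group G] [Finite G] {p : ℕ} [hp : Fact p.Prime]

/-- A quadratic element acting nontrivially on a minimal normal `p`-subgroup contradicts
`p`-stability. -/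
theorem not_isNormalizerPStable_of_isMinNormal {P : Subgroup G} [P.Normal] (hP : IsPGroup p P)
    (hne : P ≠ ⊥) (hmin : ∀ N : Subgroup G, N.Normal → N ≤ P → N = ⊥ ∨ N = P)
    {g : G} (hq : ⁅⁅P, zpowers g⁆, zpowers g⁆ = ⊥) (hg : g ∉ centralizer (P : Set G)) :
    ¬ Cfsg.IsNormalizerPStable p G := by
  intro hst
  have htop : normalizer (P : Set G) = ⊤ := normalizer_eq_top_iff.mpr ‹_›
  have hgN : g ∈ normalizer (P : Set G) := htop ▸ mem_top g
  set N := normalizer (P : Set G) with hN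
  set f := QuotientGroup.mk' ((centralizer (P : Set G)).subgroupOf N) with hf
  set D := ((Cfsg.pCore p (↥N ⧸ (centralizer (P : Set G)).subgroupOf N)).comap f).map N.subtype
  have hgD : g ∈ D := ⟨⟨g, hgN⟩, hst P hP g hgN hq, rfl⟩
  have hDn : D.Normal := by
    refine (Normal.comap inferInstance f).map _ fun x => ⟨⟨x, htop ▸ mem_top x⟩, rfl⟩
  have hDp : ∀ d ∈ D, ∃ a : ℕ, d ^ p ^ a ∈ centralizer (P : Set G) := by
    rintro _ ⟨d, hd, rfl⟩
    obtain ⟨a, ha⟩ := Core.pCore_isPGroup ⟨f d, hd⟩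
    refine ⟨a, ?_⟩
    have h2 : f d ^ p ^ a = 1 := congrArg Subtype.val ha
    rw [← map_pow] at h2
    exact (QuotientGroup.eq_one_iff (N := (centralizer (P : Set G)).subgroupOf N) _).mp h2
  let ρ : G →* MulAut P := MulAut.conjNormal
  have hker : ∀ {c : G}, c ∈ centralizer (P : Set G) → ρ c = 1 := fun {c} hc =>
    MulEquiv.ext fun x => Subtype.ext (by
      rw [MulAut.conjNormal_apply, ← mem_centralizer_iff.mp hc x x.2, mul_inv_cancel_right]
      rfl)
  have hL : IsPGroup p (D.map ρ) := by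
    rintro ⟨_, d, hd, rfl⟩
    obtain ⟨a, ha⟩ := hDp d hd
    exact ⟨a, Subtype.ext (by simpa using hker ha)⟩
  have hdvd : p ∣ Nat.card P :=
    have : Nontrivial P := (nontrivial_iff_ne_bot P).mpr hne
    let ⟨n, hn, hcard⟩ := (IsPGroup.nontrivial_iff_card hP).mp this
    hcard ▸ dvd_pow_self p hn.ne'
  obtain ⟨u, hu, hu1⟩ := hL.exists_fixed_point_of_prime_dvd_card_of_fixed_point (α := P) hdvd
    (a := 1) fun l => map_one (l : MulAut P)
  have hmem : (u : G) ∈ P ⊓ centralizer (D : Set G) := mem_inf.mpr ⟨u.2, mem_centralizer_iff.mpr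
    fun d hd => by
      have h1 := hu ⟨ρ d, mem_map_of_mem ρ hd⟩
      have h2 : d * (u : G) * d⁻¹ = u := by
        rw [← MulAut.conjNormal_apply]; exact congrArg Subtype.val h1
      exact mul_inv_eq_iff_eq_mul.mp h2⟩
  rcases hmin (P ⊓ centralizer (D : Set G)) inferInstance inf_le_left with h | h
  · rw [h, mem_bot] at hmem
    exact hu1 (Subtype.ext hmem).symm
  · exact hg (le_centralizer_iff.mp (h.ge.trans inf_le_right) hgD)

/-- The same statement for a chief factor. -/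
theorem not_isNormalizerPStable_of_chief {U V : Subgroup G} [V.Normal] (hch : Cfsg.IsChiefFactor U V)
    (hU : IsPGroup p U) {g : G} (hq : ⁅⁅U, zpowers g⁆, zpowers g⁆ ≤ V) (hg : ¬ TrivOn g U V) :
    ¬ Cfsg.IsNormalizerPStable p (G ⧸ V) := by
  set f := QuotientGroup.mk' V with hf
  have hmin := Control.isMinNormal_image hch
  have := hmin.normal
  refine not_isNormalizerPStable_of_isMinNormal (g := f g) (hU.map f) hmin.ne_bot
    hmin.eq_of_le ?_ fun h => hg (trivOn_iff.mpr (mem_comap.mpr h))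
  rw [← MonoidHom.map_zpowers, ← map_commutator, ← map_commutator, Subgroup.map_eq_bot_iff,
    QuotientGroup.ker_mk']
  exact hq

/-- The quadratic factor in the constrained case. -/
theorem exists_quadratic_factor {A Z : Subgroup G} [A.Normal] [Z.Normal]
    (hAT : A ≤ Cfsg.pCore p G) (hZA : Z ≤ A)
    (hA5 : ∀ φ : MulAut ↥(Cfsg.pCore p G), (orderOf φ).Coprime p →
      (∀ a : ↥(Cfsg.pCore p G), (a : G) ∈ A → φ a = a) → φ = 1)
    (hC : centralizer (Cfsg.pCore p G : Set G) ≤ Cfsg.pCore p G) {g : G}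
    (hgT : g ∉ Cfsg.pCore p G) (hZgg : ⁅⁅Z, zpowers g⁆, zpowers g⁆ = ⊥)
    (h : (∃ U V, Cfsg.IsChiefFactor U V ∧ U ≤ Z ∧ ¬ TrivOn g U V) ∨
      ∀ U V, Cfsg.IsChiefFactor U V → Z ≤ V → U ≤ A → Cfsg.iterCommutator U (zpowers g) 2 ≤ V) :
    ∃ U V : Subgroup G, Cfsg.IsChiefFactor U V ∧ U ≤ A ∧
      ⁅⁅U, zpowers g⁆, zpowers g⁆ ≤ V ∧ ¬ TrivOn g U V := by
  have hZ2 : ∀ U V : Subgroup G, U ≤ Z → ⁅⁅U, zpowers g⁆, zpowers g⁆ ≤ V := fun U V hU =>
    ((commutator_mono (commutator_mono hU le_rfl) le_rfl).trans hZgg.le).trans bot_le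
  rcases h with ⟨U, V, hUV, hUZ, hn⟩ | h
  · exact ⟨U, V, hUV, hUZ.trans hZA, hZ2 U V hUZ, hn⟩
  by_contra hcon
  push Not at hcon
  set T := Cfsg.pCore p G
  have hTp : IsPGroup p T := Core.pCore_isPGroup
  set K := kerOn (G := G) fun U V => U ≤ Z ∨ (Z ≤ V ∧ U ≤ A) with hKdef
  have hgK : g ∈ K := by
    rintro U V hUV (hU | ⟨hV, hU⟩)
    · exact hcon U V hUV (hU.trans hZA) (hZ2 U V hU)
    · exact hcon U V hUV hU (h U V hUV hV hU)
  refine hgT (Core.le_pCore (fun x => ?_) hgK)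
  obtain ⟨a, ha⟩ := exists_pow_coprime (p := p) (x : G)
  set k := (x : G) ^ p ^ a with hk
  have hkK : k ∈ K := pow_mem x.2 _
  have h1 : ∀ z ∈ Z, k * z * k⁻¹ = z :=
    centralizes_of_trivOn (Z₀ := (⊥ : Subgroup G)) (hTp.to_le (hZA.trans hAT)) bot_le ha
      (fun w hw => by rw [mem_bot.mp hw, mul_one, mul_inv_cancel])
      fun U V hUV _ hU => hkK U V hUV (Or.inl hU)
  have h2 : ∀ z ∈ A, k * z * k⁻¹ = z := centralizes_of_trivOn (hTp.to_le hAT) hZA ha h1
    fun U V hUV hV hU => hkK U V hUV (Or.inr ⟨hV, hU⟩)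
  have h3 := hA5 (MulAut.conjNormal k) (Nat.Coprime.coprime_dvd_left (orderOf_map_dvd _ k) ha)
    fun z hz => Subtype.ext (by rw [MulAut.conjNormal_apply]; exact h2 z hz)
  have hkT : k ∈ T := hC (mem_centralizer_iff.mpr fun z hz => by
    have h4 : k * z * k⁻¹ = z := by
      rw [← MulAut.conjNormal_apply k ⟨z, hz⟩, h3]; rfl
    exact (mul_inv_eq_iff_eq_mul.mp h4).symm)
  obtain ⟨b, hb⟩ := hTp ⟨k, hkT⟩
  refine ⟨a + b, Subtype.ext ?_⟩
  rw [pow_add, pow_mul, SubmonoidClass.coe_pow, SubmonoidClass.coe_pow]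
  exact congrArg Subtype.val hb

/-- A critical subgroup of `O_p(G)`. -/
theorem exists_critical_pCore :
    ∃ A : Subgroup G, A ≤ Cfsg.pCore p G ∧ A.Normal ∧
      (∀ a ∈ A, a ^ p ∈ A ⊓ centralizer (A : Set G)) ∧
      ⁅Cfsg.pCore p G, A⁆ ≤ A ⊓ centralizer (A : Set G) ∧
      Cfsg.pCore p G ⊓ centralizer (A : Set G) = A ⊓ centralizer (A : Set G) ∧
      ∀ φ : MulAut ↥(Cfsg.pCore p G), (orderOf φ).Coprime p →
        (∀ a : ↥(Cfsg.pCore p G), (a : G) ∈ A → φ a = a) → φ = 1 := by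
  set T := Cfsg.pCore p G with hT
  have hTp : IsPGroup p T := Core.pCore_isPGroup
  obtain ⟨H, hHc, -, hHfr, hHT, hCH⟩ := Fusion.exists_critical hTp
  have hsub : Function.Injective T.subtype := T.subtype_injective
  refine ⟨H.map T.subtype, map_subtype_le H, ConjAct.normal_of_characteristic_of_normal,
    fun a ha => ?_, ?_, ?_, fun φ hφ hfix => ?_⟩
  · obtain ⟨a, ha, rfl⟩ := ha
    rw [← map_pow, ← map_center_part hsub, mem_map_iff_mem hsub]
    refine mem_inf.mpr ⟨pow_mem ha p, ?_⟩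
    exact hHfr ⟨⟨a, ha⟩ ^ p, Core.pow_mem_frattini (hTp.to_subgroup H) _, rfl⟩
  · calc ⁅T, H.map T.subtype⁆ = ⁅H, (⊤ : Subgroup T)⁆.map T.subtype := by
          rw [map_commutator, ← MonoidHom.range_eq_map, range_subtype, Subgroup.commutator_comm]
      _ ≤ _ := (map_mono hHT).trans (map_center_part hsub H).le
  · refine le_antisymm (fun x hx => ?_) (inf_le_inf_right _ (map_subtype_le H))
    refine mem_inf.mpr ⟨⟨⟨x, hx.1⟩, hCH (mem_centralizer_iff.mpr fun y hy => Subtype.ext ?_), rfl⟩,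
      hx.2⟩
    exact mem_centralizer_iff.mp hx.2 y ⟨y, hy, rfl⟩
  have hfix' : ∀ a ∈ H, φ a = a := fun a ha => hfix a ⟨a, ha, rfl⟩
  refine MulEquiv.ext fun x => ?_
  set z := x⁻¹ * φ x with hz
  have hzH : z ∈ H := by
    refine hCH (mem_centralizer_iff.mpr fun a ha => ?_)
    have h := hfix' _ ((inferInstance : H.Normal).conj_mem a ha x)
    rw [map_mul, map_mul, map_inv, hfix' a ha] at h
    calc a * z = x⁻¹ * (x * a * x⁻¹) * φ x := by rw [hz]; group
      _ = z * a := by rw [← h, hz]; group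
  have hpow : ∀ m : ℕ, (φ ^ m) x = x * z ^ m := by
    intro m
    induction m with
    | zero => simp
    | succ m ih =>
      rw [pow_succ' φ, MulAut.mul_apply, ih, map_mul, hfix' _ (pow_mem hzH m), pow_succ' z,
        ← mul_assoc x, show x * z = φ x from mul_inv_cancel_left x _]
  have h1 : z ^ orderOf φ = 1 := by
    have h := hpow (orderOf φ)
    rw [pow_orderOf_eq_one, MulAut.one_apply, left_eq_mul] at h
    exact h
  obtain ⟨b, hb⟩ := hTp z
  have h2 := pow_gcd_eq_one.mpr ⟨hb, h1⟩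
  rw [Nat.Coprime.gcd_eq_one (Nat.Coprime.pow_left b (Nat.coprime_comm.mp hφ)), pow_one] at h2
  rw [MulAut.one_apply]
  exact (inv_mul_eq_one.mp h2).symm

/-- An element outside `O_p(G)` acting with small degree of nilpotence, when a K-infinity subgroup
of a Sylow `p`-subgroup is not normal. -/
theorem exists_small_degree (S : Sylow p G)
    (hK : ¬ (Cfsg.inducedFunctor Cfsg.kInfLower (S : Subgroup G)).Normal ∨
      ¬ (Cfsg.inducedFunctor Cfsg.kInfUpper (S : Subgroup G)).Normal) :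
    ∃ g : G, g ∈ (S : Subgroup G) ∧ g ∉ Cfsg.pCore p G ∧ Good g 4 (Cfsg.pCore p G) ∧
      ⁅⁅Cfsg.pCore p G ⊓ centralizer (Cfsg.pCore p G : Set G), zpowers g⁆, zpowers g⁆ = ⊥ ∧
      (centralizer (Cfsg.pCore p G : Set G) ≤ Cfsg.pCore p G →
        ∃ U V : Subgroup G, Cfsg.IsChiefFactor U V ∧ U ≤ Cfsg.pCore p G ∧
          ⁅⁅U, zpowers g⁆, zpowers g⁆ ≤ V ∧ ¬ TrivOn g U V) := by
  obtain ⟨A, hAT, hAn, -, hTA, hTC, hA5⟩ := exists_critical_pCore (G := G) (p := p)
  set Z := A ⊓ centralizer (A : Set G) with hZ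
  obtain ⟨g, hgS, hgT, h3, hZgg, hor⟩ := exists_cubic S A Z hAT hZ hTA hK
  have hTZ : Cfsg.pCore p G ⊓ centralizer (Cfsg.pCore p G : Set G) ≤ Z :=
    (inf_le_inf_left _ (centralizer_le (SetLike.coe_subset_coe.mpr hAT))).trans hTC.le
  have hZgood : Good g 2 Z := fun U V _ hU => ((iter_mono hU _ 2).trans hZgg.le).trans bot_le
  refine ⟨g, hgS, hgT,
    good_of_critical (i := 3) (j := 2) Core.pCore_isPGroup hAT inf_le_left inf_le_right hTA hTC.le
      (by norm_num) (good_step (hZgood.mono_nat (by norm_num)) h3) hZgood,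
    le_bot_iff.mp ((commutator_mono (commutator_mono hTZ le_rfl) le_rfl).trans hZgg.le),
    fun hC => ?_⟩
  obtain ⟨U, V, hUV, hUA, hq, hn⟩ :=
    exists_quadratic_factor hAT inf_le_left hA5 hC hgT hZgg hor
  exact ⟨U, V, hUV, hUA.trans hAT, hq, hn⟩

theorem exists_small_degree_not_pStable (S : Sylow p G)
    (hK : ¬ (Cfsg.inducedFunctor Cfsg.kInfLower (S : Subgroup G)).Normal ∨
      ¬ (Cfsg.inducedFunctor Cfsg.kInfUpper (S : Subgroup G)).Normal) :
    ∃ g : G, g ∈ (S : Subgroup G) ∧ g ∉ Cfsg.pCore p G ∧ Good g 4 (Cfsg.pCore p G) ∧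
      ⁅⁅Cfsg.pCore p G ⊓ centralizer (Cfsg.pCore p G : Set G), zpowers g⁆, zpowers g⁆ = ⊥ ∧
      (centralizer (Cfsg.pCore p G : Set G) ≤ Cfsg.pCore p G →
        ∃ (N : Subgroup G) (_ : N.Normal), ¬ Cfsg.IsNormalizerPStable p (G ⧸ N)) := by
  obtain ⟨g, h1, h2, h3, h4, h5⟩ := exists_small_degree S hK
  refine ⟨g, h1, h2, h3, h4, fun hC => ?_⟩
  obtain ⟨U, V, hUV, hU, hq, hn⟩ := h5 hC
  obtain ⟨-, -, hVn, -⟩ := id hUV
  exact ⟨V, hVn, not_isNormalizerPStable_of_chief hUV (Core.pCore_isPGroup.to_le hU) hq hn⟩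

end Cfsg.Agent.KInf
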