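import Cfsg.Agent.Control.WeakClosure
import Cfsg.Agent.KInf.Main

/-!
# Weak closure of `p`-th powers of central elements
-/

namespace Cfsg.Agent.KInf

open Subgroup
open scoped commutatorElement

set_option linter.unusedSectionVars false

universe u

/-- The subgroup generated by the `p`-th powers of elements of `T ⊓ C(T)`. -/
def pPow {G : Type u} [Group G] (p : ℕ) (T : Subgroup G) : Subgroup G :=
  closure ((fun z : G => z ^ p) '' ((T ⊓ centralizer (T : Set G) : Subgroup G) : Set G))

theorem pPow_le {G : Type u} [Group G] (p : ℕ) (T : Subgroup G) :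
    pPow p T ≤ T ⊓ centralizer (T : Set G) := by
  rw [pPow, closure_le]
  rintro _ ⟨z, hz, rfl⟩
  exact pow_mem hz p

variable {G : Type u} [Group G] [Finite G] {p : ℕ} [hp : Fact p.Prime]

theorem exists_last_power {Q : Subgroup G} {g : G} (hg : g ∉ Q) (hgp : ∃ n, g ^ p ^ n = 1) :
    ∃ k, g ^ p ^ k ∉ Q ∧ (g ^ p ^ k) ^ p ∈ Q := by
  classical
  obtain ⟨n, hn⟩ := hgp
  have hex : ∃ k, g ^ p ^ k ∈ Q := ⟨n, hn ▸ one_mem Q⟩
  set k := Nat.find hex
  have hk : g ^ p ^ k ∈ Q := Nat.find_spec hex
  rcases Nat.eq_zero_or_pos k with h0 | h0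
  · rw [h0, pow_zero, pow_one] at hk
    exact absurd hk hg
  refine ⟨k - 1, Nat.find_min hex (show k - 1 < k by omega), ?_⟩
  rw [← pow_mul, ← pow_succ, show k - 1 + 1 = k by omega]
  exact hk

theorem commute_pow_of_quadratic {Ω : Subgroup G} [Ω.Normal] (hΩ : Ω ≤ centralizer (Ω : Set G))
    {g : G} (hq : ⁅⁅Ω, zpowers g⁆, zpowers g⁆ = ⊥) {a : G} (ha : a ∈ Ω)
    (hgp : g ^ p * a * (g ^ p)⁻¹ = a) : Commute g (a ^ p) := by
  set c := g * a * g⁻¹ * a⁻¹ with hc
  have hgc : Commute g c := by
    have h1 : c ∈ ⁅Ω, zpowers g⁆ := by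
      rw [Subgroup.commutator_comm, hc, ← commutatorElement_def]
      exact commutator_mem_commutator (mem_zpowers g) ha
    exact mem_centralizer_iff.mp (commutator_eq_bot_iff_le_centralizer.mp hq h1) g (mem_zpowers g)
  have hcΩ : c ∈ Ω := mul_mem ((‹Ω.Normal›).conj_mem a ha g) (inv_mem ha)
  have hca : Commute c a := (mem_centralizer_iff.mp (hΩ hcΩ) a ha).symm
  have hconj : ∀ i : ℕ, g ^ i * a * (g ^ i)⁻¹ = c ^ i * a := by
    intro i
    induction i with
    | zero => simp
    | succ i ih =>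
      have h2 : g * c ^ i * g⁻¹ = c ^ i := by
        rw [(hgc.pow_right i).eq, mul_inv_cancel_right]
      calc g ^ (i + 1) * a * (g ^ (i + 1))⁻¹ = g * (g ^ i * a * (g ^ i)⁻¹) * g⁻¹ := by group
        _ = (g * c ^ i * g⁻¹) * (g * a * g⁻¹ * a⁻¹) * a := by rw [ih]; group
        _ = c ^ (i + 1) * a := by rw [h2, ← hc, pow_succ]
  have hcp : c ^ p = 1 := by
    have := hconj p
    rw [hgp] at this
    simpa using this.symm
  have h3 : g * a * g⁻¹ = c * a := by rw [hc]; group
  have h4 : g * a ^ p * g⁻¹ = a ^ p := by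
    rw [← conj_pow, h3, hca.mul_pow, hcp, one_mul]
  exact mul_inv_eq_iff_eq_mul.mp h4

/-- If `h` carries `A`, generated by `p`-th powers of central elements of `T`, into `T`, then `h` lies
in every `St` between `C(A)` and `N(A)` containing `N_H(W T)`. -/
theorem mem_of_moving {W : Subgroup G → Subgroup G} (hW : Cfsg.IsConjugacyFunctor p W)
    (hWZ : ∀ P : Subgroup G, IsPGroup p P → P ⊓ centralizer (P : Set G) ≤ W P)
    (hloc : ∀ H T : Subgroup G, T ≤ H → IsPGroup p T → ¬ p ∣ T.relIndex H →
      ¬ H ≤ normalizer ((W T : Subgroup G) : Set G) →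
      ∃ g : G, g ∈ T ∧ g ∉ Cfsg.pCoreOf p H ∧
        ⁅⁅Cfsg.pCoreOf p H ⊓ centralizer ((Cfsg.pCoreOf p H : Subgroup G) : Set G), zpowers g⁆,
          zpowers g⁆ = ⊥)
    {A St : Subgroup G} (hCA : centralizer (A : Set G) ≤ St) (hStA : St ≤ normalizer (A : Set G))
    {H T : Subgroup G} (hT : Control.SylIn p T H) (hA : A ≤ pPow p T)
    (hN : H ⊓ normalizer ((W T : Subgroup G) : Set G) ≤ St) {h : G} (hh : h ∈ H)
    (hhA : Control.cjSub h A ≤ T) : h ∈ St := by
  induction hn : Nat.card H using Nat.strong_induction_on generalizing H T h with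
  | _ n IH =>
  subst hn
  by_contra hne
  have hsub : ∀ K : Subgroup H, K ≠ ⊤ → Nat.card (K.map H.subtype) < Nat.card H := by
    intro K hK
    rw [card_map_of_injective H.subtype_injective]
    exact Core.card_lt_of_ne_top hK
  set W' := Control.restrictFunctor W H with hW'def
  have hW' : Cfsg.IsConjugacyFunctor p W' := Control.isConjugacyFunctor_restrict hW H
  have hWZ' : ∀ P : Subgroup H, IsPGroup p P → P ⊓ centralizer (P : Set H) ≤ W' P := fun P hP => by
    rw [← map_le_map_iff_of_injective H.subtype_injective, Control.map_restrictFunctor hW hP,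
      map_center_part H.subtype_injective]
    exact hWZ _ (hP.map _)
  obtain ⟨S, hS⟩ : ∃ S : Sylow p H, (S : Subgroup H) = T.subgroupOf H :=
    ⟨(hT.isPGroup.comap_subtype (K := H)).toSylow hT.not_dvd, rfl⟩
  have hSmap : (S : Subgroup H).map H.subtype = T := by
    rw [hS, map_subgroupOf_eq_of_le hT.le]
  have hAT : A ≤ T := hA.trans ((pPow_le p T).trans inf_le_left)
  set A' := A.subgroupOf H
  set St' := St.subgroupOf H
  set h' : H := ⟨h, hh⟩
  have hA'S : A' ≤ (S : Subgroup H) := by rw [hS]; exact fun x hx => hAT hx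
  have hA'C : A' ≤ centralizer ((S : Subgroup H) : Set H) := fun x hx =>
    mem_centralizer_iff.mpr fun s hs => Subtype.ext <| by
      have h1 := ((pPow_le p T).trans inf_le_right) (hA hx)
      rw [hS] at hs
      exact mem_centralizer_iff.mp h1 s hs
  have hCA' : centralizer (A' : Set H) ≤ St' := fun k hk => by
    refine hCA (mem_centralizer_iff.mpr fun a ha => ?_)
    exact congrArg Subtype.val (mem_centralizer_iff.mp hk ⟨a, hT.le (hAT ha)⟩ ha)
  have hStA' : St' ≤ normalizer (A' : Set H) := fun k hk => mem_normalizer_iff.mpr fun a =>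
    mem_normalizer_iff.mp (hStA hk) a
  have hNW : normalizer ((W' (S : Subgroup H) : Subgroup H) : Set H) ≤ St' := fun k hk => by
    refine hN (mem_inf.mpr ⟨k.2, Control.mem_normalizer_of_cjSub_eq ?_⟩)
    have h1 : Control.cjSub k (W' (S : Subgroup H)) = W' (S : Subgroup H) :=
      Control.cjSub_eq_of_mem hk
    rw [← hSmap, ← Control.map_restrictFunctor hW S.2]
    conv_rhs => rw [← hW'def, ← h1]
    rw [Control.cjSub, Control.cjSub, map_map, map_map]
    rfl
  obtain ⟨U, hU, hAU, hNU, n, hn, hnSt⟩ := Control.exists_wellPlaced_moving S hW' hWZ' hA'S hA'C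
    hStA' hNW (g := h') hne (by
      rintro _ ⟨a, ha, rfl⟩
      rw [hS]
      exact hhA ⟨a, ha, rfl⟩)
  -- elements normalising a subgroup of `S` containing `A` move `A` into `S`
  have hmove : ∀ {V : Subgroup H}, A' ≤ V → ∀ k ∈ normalizer (V : Set H),
      Control.cjSub (k : G) A ≤ V.map H.subtype := by
    intro V hV k hk
    rintro _ ⟨a, ha, rfl⟩
    exact ⟨k * ⟨a, hT.le (hAT ha)⟩ * k⁻¹, (mem_normalizer_iff.mp hk _).mp (hV (show _ ∈ A' from ha)),
      rfl⟩
  by_cases hUn : normalizer (U : Set H) = ⊤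
  swap
  · refine hnSt ?_
    set R := (S : Subgroup H) ⊓ normalizer (U : Set H) with hRdef
    have hR : Control.SylIn p (R.map H.subtype) ((normalizer (U : Set H)).map H.subtype) :=
      (Control.sylIn_full S (hU.2 0)).map_injective H.subtype_injective
    refine IH _ (hsub _ hUn) hR (hA.trans (closure_mono (Set.image_mono ?_))) ?_
      (show (n : G) ∈ (normalizer (U : Set H)).map H.subtype from ⟨n, hn, rfl⟩) ?_ rfl
    · rintro z ⟨hzT, hzC⟩
      refine mem_inf.mpr ⟨⟨⟨z, hT.le hzT⟩, mem_inf.mpr ⟨hS ▸ hzT, ?_⟩, rfl⟩, ?_⟩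
      · refine mem_normalizer_iff.mpr fun y => ?_
        constructor
        · intro hy
          have hyS := hU.1 hy
          rw [hS] at hyS
          rwa [show (⟨z, hT.le hzT⟩ : H) * y * (⟨z, hT.le hzT⟩ : H)⁻¹ = y from Subtype.ext (by
            rw [Subgroup.coe_mul, Subgroup.coe_mul, InvMemClass.coe_inv]
            change z * (y : G) * z⁻¹ = y
            rw [← mem_centralizer_iff.mp hzC y hyS, mul_inv_cancel_right])]
        · intro hy
          have hyS := hU.1 hy
          rw [hS] at hyS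
          have h1 := mem_centralizer_iff.mp hzC _ hyS
          change z * (y : G) * z⁻¹ * z = z * (z * (y : G) * z⁻¹) at h1
          rwa [show (⟨z, hT.le hzT⟩ : H) * y * (⟨z, hT.le hzT⟩ : H)⁻¹ = y from Subtype.ext (by
            change z * (y : G) * z⁻¹ = y
            exact mul_left_cancel (by rw [← h1, inv_mul_cancel_right]))] at hy
      · exact centralizer_le (SetLike.coe_subset_coe.mpr
          ((map_mono inf_le_left).trans hSmap.le)) hzC
    · rintro _ ⟨⟨k, hk, rfl⟩, hkN⟩
      refine hNU (Control.mem_normalizer_of_cjSub_eq (map_injective H.subtype_injective ?_))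
      have h1 : Control.cjSub (k : G) (W (R.map H.subtype)) = W (R.map H.subtype) :=
        Control.cjSub_eq_of_mem hkN
      rw [Control.map_restrictFunctor hW (S.2.to_inf_left)]
      refine Eq.trans ?_ h1
      rw [← Control.map_restrictFunctor hW (S.2.to_inf_left : IsPGroup p R), Control.cjSub,
        Control.cjSub, map_map, map_map]
      rfl
    · exact (hmove hAU n hn).trans (map_mono (le_inf hU.1 le_normalizer))
  -- `A` lies in `O_p`
  set Q := Cfsg.pCore p H
  have hUQ : U ≤ Q := by
    have := normalizer_eq_top_iff.mp hUn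
    exact Core.le_pCore (S.2.to_le hU.1)
  have hAQ : A' ≤ Q := hAU.trans hUQ
  have hprop : ∀ K : Subgroup H, (S : Subgroup H) ≤ K → K ≠ ⊤ → K ≤ St' := by
    intro K hSK hK k hk
    refine IH _ (hsub K hK) (hT.mono (hSmap ▸ map_mono hSK) (map_subtype_le _)) hA
      ((inf_le_inf_right _ (map_subtype_le K)).trans hN) ⟨k, hk, rfl⟩ ?_ rfl
    exact (hmove hAQ k (by rw [normalizer_eq_top_iff.mpr inferInstance]; exact mem_top k)).trans
      ((map_mono (Core.pCore_le_sylow S)).trans hSmap.le)
  have hfr : ∀ C : Subgroup H, C.Normal → C ≤ St' → (S : Subgroup H) ⊓ C ≤ Q := by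
    intro C hCn hCSt
    by_contra hcon
    have hL : Control.SylIn p ((S : Subgroup H) ⊓ C) C :=
      (Control.sylIn_top S).inf_normal le_top (by rw [normalizer_eq_top_iff.mpr hCn])
    have hN' : normalizer (((S : Subgroup H) ⊓ C : Subgroup H) : Set H) ≤ St' := by
      refine hprop _ (fun s hs => ?_) fun htop => hcon ?_
      · refine Control.mem_normalizer_of_cjSub_eq ?_
        rw [Control.cjSub, map_inf_eq _ _ _ (MulAut.conj s).injective]
        change Control.cjSub s _ ⊓ Control.cjSub s C = _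
        rw [Control.cjSub_eq_of_mem (le_normalizer hs), Control.cjSub_eq_of_mem
          (show s ∈ normalizer (C : Set H) by rw [normalizer_eq_top_iff.mpr hCn]; exact mem_top s)]
      · have := normalizer_eq_top_iff.mp htop
        exact Core.le_pCore (S.2.to_le inf_le_left)
    obtain ⟨y, hy, c, hc, hyc⟩ := Control.exists_eq_normalizer_mul hL h'
    exact hne (show h' ∈ St' from hyc ▸ mul_mem (hN' hy) (hCSt hc))
  have hZQ : (S : Subgroup H) ⊓ centralizer ((S : Subgroup H) : Set H) ≤
      Q ⊓ centralizer (Q : Set H) := by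
    have h1 : (S : Subgroup H) ⊓ centralizer ((S : Subgroup H) : Set H) ≤ centralizer (Q : Set H) :=
      inf_le_right.trans (centralizer_le (SetLike.coe_subset_coe.mpr (Core.pCore_le_sylow S)))
    exact le_inf ((le_inf inf_le_left h1).trans (hfr _ inferInstance
      ((centralizer_le (SetLike.coe_subset_coe.mpr hAQ)).trans hCA'))) h1
  set Ω := Q ⊓ centralizer (Q : Set H) with hΩ
  set D := closure ((fun z : H => z ^ p) '' (Ω : Set H)) with hD
  have hDn : D.Normal := ⟨fun x hx k => by
    have hle : D ≤ D.comap (MulAut.conj k).toMonoidHom := by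
      rw [hD, closure_le]
      rintro _ ⟨z, hz, rfl⟩
      refine subset_closure ⟨k * z * k⁻¹, (inferInstance : Ω.Normal).conj_mem z hz k, ?_⟩
      simp [conj_pow]
    exact hle hx⟩
  have hAD : A' ≤ D := by
    rw [← map_le_map_iff_of_injective H.subtype_injective,
      map_subgroupOf_eq_of_le (hAT.trans hT.le), hD, MonoidHom.map_closure]
    refine hA.trans (closure_mono ?_)
    rintro _ ⟨z, hz, rfl⟩
    have hzT := hz.1
    refine ⟨(⟨z, hT.le hzT⟩ : H) ^ p, ⟨_, hZQ (mem_inf.mpr ⟨hS ▸ hzT, ?_⟩), rfl⟩, rfl⟩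
    exact mem_centralizer_iff.mpr fun s hs => Subtype.ext <| by
      rw [hS] at hs
      exact mem_centralizer_iff.mp hz.2 s hs
  obtain ⟨g, hgT, hgQ, hq⟩ := hloc H T hT.le hT.isPGroup hT.not_dvd fun hle =>
    hne (hN (mem_inf.mpr ⟨hh, hle hh⟩))
  set g' : H := ⟨g, hT.le hgT⟩
  have hq' : ⁅⁅Ω, zpowers g'⁆, zpowers g'⁆ = ⊥ := by
    rw [← map_eq_bot_iff_of_injective _ H.subtype_injective, map_commutator, map_commutator,
      MonoidHom.map_zpowers, hΩ, map_center_part H.subtype_injective]
    exact hq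
  obtain ⟨k, hkQ, hkp⟩ := exists_last_power (p := p) (Q := Q) (g := g')
    (fun hc => hgQ ⟨g', hc, rfl⟩) (by
      obtain ⟨n, hn⟩ := hT.isPGroup ⟨g, hgT⟩
      exact ⟨n, Subtype.ext (by simpa using congrArg Subtype.val hn)⟩)
  set e := g' ^ p ^ k
  have heS : e ∈ (S : Subgroup H) := pow_mem (hS ▸ hgT) _
  have hzle : zpowers e ≤ zpowers g' := zpowers_le.mpr (pow_mem (mem_zpowers g') _)
  have heD : e ∈ centralizer (D : Set H) := by
    refine mem_centralizer_iff.mpr fun d hd => ?_
    have hd' : d ∈ centralizer ({e} : Set H) := by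
      revert d
      change D ≤ centralizer ({e} : Set H)
      rw [hD, closure_le]
      rintro _ ⟨a, ha, rfl⟩
      refine mem_centralizer_singleton_iff.mpr ?_
      refine (commute_pow_of_quadratic (Ω := Ω) (g := e)
        (inf_le_right.trans (centralizer_le (SetLike.coe_subset_coe.mpr inf_le_left))) ?_ ha ?_).eq.symm
      · exact le_bot_iff.mp
          ((commutator_mono (commutator_mono le_rfl hzle) hzle).trans hq'.le)
      · rw [mem_centralizer_iff.mp (show a ∈ centralizer (Q : Set H) from (mem_inf.mp ha).2) _ hkp,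
          mul_inv_cancel_right]
    exact mem_centralizer_singleton_iff.mp hd'
  exact hkQ (hfr _ inferInstance ((centralizer_le (SetLike.coe_subset_coe.mpr hAD)).trans hCA')
    (mem_inf.mpr ⟨heS, heD⟩))

theorem weaklyClosed_pPow {W : Subgroup G → Subgroup G} (hW : Cfsg.IsConjugacyFunctor p W)
    (hWZ : ∀ P : Subgroup G, IsPGroup p P → P ⊓ centralizer (P : Set G) ≤ W P)
    (hloc : ∀ H T : Subgroup G, T ≤ H → IsPGroup p T → ¬ p ∣ T.relIndex H →
      ¬ H ≤ normalizer ((W T : Subgroup G) : Set G) →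
      ∃ g : G, g ∈ T ∧ g ∉ Cfsg.pCoreOf p H ∧
        ⁅⁅Cfsg.pCoreOf p H ⊓ centralizer ((Cfsg.pCoreOf p H : Subgroup G) : Set G), zpowers g⁆,
          zpowers g⁆ = ⊥)
    (S : Sylow p G) :
    (∀ x ∈ pPow p (S : Subgroup G) ⊓
        centralizer (normalizer ((W (S : Subgroup G) : Subgroup G) : Set G) : Set G),
      ∀ g : G, g * x * g⁻¹ ∈ (S : Subgroup G) → g * x * g⁻¹ = x) ∧
    ∀ A : Subgroup G, A ≤ pPow p (S : Subgroup G) →
      normalizer ((W (S : Subgroup G) : Subgroup G) : Set G) ≤ normalizer (A : Set G) →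
      Cfsg.IsWeaklyClosed A (S : Subgroup G) := by
  have hS := Control.sylIn_top S
  refine ⟨fun x hx g hg => ?_, fun A hA hN => ?_⟩
  · have h := mem_of_moving hW hWZ hloc (A := zpowers x) (St := centralizer ({x} : Set G))
      (fun k hk => mem_centralizer_singleton_iff.mpr
        (mem_centralizer_iff.mp hk x (mem_zpowers x)).symm)
      (fun k hk => Control.mem_normalizer_of_cjSub_eq (by
        rw [Control.cjSub, MonoidHom.map_zpowers]
        congr 1
        change k * x * k⁻¹ = x
        rw [mem_centralizer_singleton_iff.mp hk, mul_inv_cancel_right]))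
      hS (zpowers_le.mpr hx.1)
      (fun k hk => mem_centralizer_singleton_iff.mpr (mem_centralizer_iff.mp hx.2 k hk.2))
      (mem_top g) (by
        rw [Control.cjSub, MonoidHom.map_zpowers, zpowers_le]
        exact hg)
    rw [mem_centralizer_singleton_iff.mp h, mul_inv_cancel_right]
  · refine ⟨(hA.trans (pPow_le p _)).trans inf_le_left, fun g hg => ?_⟩
    exact Control.cjSub_eq_of_mem (mem_of_moving hW hWZ hloc (A := A) (St := normalizer (A : Set G))
      (centralizer_le_normalizer _) le_rfl hS hA (inf_le_right.trans hN) (mem_top g) hg)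

end Cfsg.Agent.KInf
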