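import Cfsg.Agent.KInf.AbTop
import Cfsg.Agent.KInf.Series
import Cfsg.Agent.KInf.Stabilizer
import Cfsg.Agent.KInf.WeakClosure
import Cfsg.Agent.Fusion.ThompsonComplement

/-!
# Normal `p`-complements from a local property of a characteristic functor
-/

namespace Cfsg.Agent.KInf

open Subgroup
open scoped commutatorElement

set_option linter.unusedSectionVars false

universe u

variable {p : ℕ}

/-- In a constrained group, a Sylow subgroup `T` with `W(T)` not normal contains an element outside
`O_p` acting nontrivially, with `p - 1` commutators vanishing, on a chief factor inside `O_p`. -/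
def LocW (W : ∀ (Q : Type u) [Group Q], Subgroup Q) (p : ℕ) (Y : Type u) [Group Y] : Prop :=
  centralizer (Cfsg.pCore p Y : Set Y) ≤ Cfsg.pCore p Y →
    ∀ T : Sylow p Y, ¬ (Cfsg.inducedFunctor (G := Y) W (T : Subgroup Y)).Normal →
      ∃ g : Y, g ∈ (T : Subgroup Y) ∧ g ∉ Cfsg.pCore p Y ∧ ∃ U V : Subgroup Y,
        Cfsg.IsChiefFactor U V ∧ U ≤ Cfsg.pCore p Y ∧
          Cfsg.iterCommutator U (zpowers g) (p - 1) ≤ V ∧ ¬ ⁅U, zpowers g⁆ ≤ V

variable [hp : Fact p.Prime]

theorem chief_map_equiv {Y Y' : Type u} [Group Y] [Group Y'] (e : Y ≃* Y') {U V : Subgroup Y}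
    (h : Cfsg.IsChiefFactor U V) :
    Cfsg.IsChiefFactor (U.map e.toMonoidHom) (V.map e.toMonoidHom) := by
  obtain ⟨hlt, hU, hV, hch⟩ := h
  have hinj : Function.Injective e.toMonoidHom := e.injective
  refine ⟨(map_lt_map_iff_of_injective hinj).mpr hlt, hU.map _ e.surjective, hV.map _ e.surjective,
    fun N hN h1 h2 => ?_⟩
  have hsurj : Function.Surjective e.toMonoidHom := e.surjective
  rcases hch (N.comap e.toMonoidHom) (hN.comap _) (map_le_iff_le_comap.mp h1)
    ((comap_mono h2).trans (comap_map_eq_self_of_injective hinj U).le) with h3 | h3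
  · exact Or.inl (by rw [← map_comap_eq_self_of_surjective hsurj N, h3])
  · exact Or.inr (by rw [← map_comap_eq_self_of_surjective hsurj N, h3])

theorem locW_congr {W : ∀ (Q : Type u) [Group Q], Subgroup Q} (hW : Cfsg.IsCharPFunctor.{u} p W)
    {Y Y' : Type u} [Group Y] [Group Y'] [Finite Y] (e : Y ≃* Y') (h : LocW W p Y) :
    LocW W p Y' := by
  intro hC T hT
  have : Finite Y' := Finite.of_equiv Y e.toEquiv
  set f := e.toMonoidHom
  have hinj : Function.Injective f := e.injective
  have hsurj : Function.Surjective f := e.surjective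
  have hQ : (Cfsg.pCore p Y).map f = Cfsg.pCore p Y' := Core.map_pCore e
  have hsym : Function.Surjective e.symm.toMonoidHom := e.symm.surjective
  set T₀ := T.mapSurjective hsym with hT₀
  have hT₀T : (T₀ : Subgroup Y).map f = T := by
    rw [hT₀, Sylow.coe_mapSurjective, map_map, show f.comp e.symm.toMonoidHom = MonoidHom.id Y' from
      MonoidHom.ext e.apply_symm_apply, Subgroup.map_id]
  have hC' : centralizer (Cfsg.pCore p Y : Set Y) ≤ Cfsg.pCore p Y := fun c hc => by
    rw [← mem_map_iff_mem hinj, hQ]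
    refine hC (mem_centralizer_iff.mpr fun q hq => ?_)
    rw [← hQ] at hq
    obtain ⟨q, hq, rfl⟩ := hq
    rw [← map_mul, ← map_mul, mem_centralizer_iff.mp hc q hq]
  obtain ⟨g, hgT, hgQ, U, V, hch, hU, hit, hn⟩ := h hC' T₀ fun hn => hT (by
    rw [← hT₀T, Control.inducedFunctor_map hW f T₀.2 hinj.injOn]
    exact hn.map f hsurj)
  refine ⟨f g, hT₀T ▸ mem_map_of_mem f hgT, fun hc => hgQ ?_, U.map f, V.map f, chief_map_equiv e hch,
    hQ ▸ map_mono hU, ?_, fun hc => hn ?_⟩
  · rw [← hQ] at hc
    exact (mem_map_iff_mem hinj).mp hc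
  · rw [← MonoidHom.map_zpowers, ← Control.map_iterCommutator]
    exact map_mono hit
  · rw [← map_le_map_iff_of_injective hinj, map_commutator, MonoidHom.map_zpowers]
    exact hc

/-! ### the complement -/

theorem hasNormalPComplement_of_minimal {W : ∀ (Q : Type u) [Group Q], Subgroup Q}
    (hW : Cfsg.IsCharPFunctor.{u} p W) {G : Type u} [Group G] [Finite G]
    (hloc : ∀ (Y : Type u) [Group Y] [Finite Y], Control.IsSec Y G →
      centralizer (Cfsg.pCore p Y : Set Y) ≤ Cfsg.pCore p Y →
      Cfsg.HasNormalPComplement p (Y ⧸ Cfsg.pCore p Y) → AbTop p Y →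
      ∀ T : Sylow p Y, IsCoatom (T : Subgroup Y) →
      Cfsg.HasNormalPComplement p
        ↥(normalizer ((Cfsg.inducedFunctor W (T : Subgroup Y) : Subgroup Y) : Set Y)) →
      ¬ (Cfsg.inducedFunctor (G := Y) W (T : Subgroup Y)).Normal → False) (S : Sylow p G)
    (hN : Cfsg.HasNormalPComplement p
      ↥(normalizer ((Cfsg.inducedFunctor W (S : Subgroup G) : Subgroup G) : Set G))) :
    Cfsg.HasNormalPComplement p G := by
  induction hn : Nat.card G using Nat.strong_induction_on generalizing G with
  | _ n IH =>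
  subst hn
  have hpp := hp.out
  by_contra hG
  have hWc : Cfsg.IsConjugacyFunctor p (Cfsg.inducedFunctor (G := G) W) :=
    Control.isConjugacyFunctor_induced hW
  have htopc : ∀ {L : Subgroup G}, L = ⊤ → Cfsg.HasNormalPComplement p L → False := fun hL h => by
    subst hL; exact hG ((Fusion.hasNormalPComplement_congr topEquiv).mp h)
  have hsub : ∀ (H : Subgroup G), H ≠ ⊤ → ∀ (T : Sylow p H),
      Cfsg.HasNormalPComplement p (normalizer
        ((Cfsg.inducedFunctor W ((T : Subgroup H).map H.subtype) : Subgroup G) : Set G)) →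
      Cfsg.HasNormalPComplement p H := by
    intro H hH T h1
    refine IH _ (Core.card_lt_of_ne_top hH)
      (fun Y _ _ hY => hloc Y (hY.trans (Control.isSec_subgroup H))) T ?_ rfl
    refine Fusion.hasNormalPComplement_of_map_le H.subtype_injective ?_ h1
    rw [Control.inducedFunctor_map hW H.subtype T.2 H.subtype_injective.injOn]
    exact le_normalizer_map _
  -- no normal `p'`-subgroup
  have hO' : Cfsg.pPrimeCore p G = ⊥ := by
    by_contra hne
    set M := Cfsg.pPrimeCore p G
    set f := QuotientGroup.mk' M with hf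
    have hfs := QuotientGroup.mk'_surjective M
    have hker : (Nat.card f.ker).Coprime p := by
      rw [hf, QuotientGroup.ker_mk']; exact Core.coprime_card_pPrimeCore
    refine hG (Fusion.hasNormalPComplement_of_quotient M Core.coprime_card_pPrimeCore ?_)
    refine IH _ (Core.card_quotient_lt hne)
      (fun Y _ _ hY => hloc Y (hY.trans (Control.isSec_of_surjective hfs))) (S.mapSurjective hfs) ?_ rfl
    rw [Sylow.coe_mapSurjective,
      Control.inducedFunctor_map hW f S.2 (Control.injOn_sylow_of_coprime _ S.2 f hker),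
      ← Layer.map_normalizer_of_coprime hfs hker (S.2.to_le (hWc _ S.2).1)]
    exact Fusion.hasNormalPComplement_map f hN le_rfl
  obtain ⟨U, hU, hU1, hUn, hUmax⟩ := Fusion.exists_normalizer_not_complement hG
  set N := normalizer (U : Set G) with hNdef
  obtain ⟨T⟩ := (inferInstance : Nonempty (Sylow p N))
  set S₁ : Subgroup G := (T : Subgroup N).map N.subtype with hS₁
  have hS₁p : IsPGroup p S₁ := T.2.map _
  obtain ⟨R, hSR⟩ := hS₁p.exists_le_sylow
  replace hN : Cfsg.HasNormalPComplement p
      ↥(normalizer ((Cfsg.inducedFunctor W (R : Subgroup G) : Subgroup G) : Set G)) := by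
    obtain ⟨g, rfl⟩ := MulAction.exists_smul_eq G S R
    refine Fusion.hasNormalPComplement_of_map_le (f := (MulAut.conj g⁻¹).toMonoidHom)
      (MulAut.conj g⁻¹).injective ?_ hN
    rw [Sylow.coe_subgroup_smul, Coprime.conj_smul_eq_map, (hWc _ S.2).2.2 g]
    exact Fusion.map_normalizer_conj g _
  clear! S
  rename' R => P
  have hTS : (T : Subgroup N) = S₁.subgroupOf N :=
    (comap_map_eq_self_of_injective N.subtype_injective _).symm
  have hUS : U ≤ S₁ := by
    have hUN : (U.subgroupOf N).Normal := normal_in_normalizer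
    have h1 : U.subgroupOf N ≤ (T : Subgroup N) :=
      (Core.le_pCore (hN := hUN) (hU.comap_subtype (K := N))).trans (Core.pCore_le_sylow T)
    intro x hx
    exact mem_map_of_mem N.subtype (h1 (show (⟨x, le_normalizer hx⟩ : N) ∈ U.subgroupOf N from hx))
  have hS1 : S₁ ≠ ⊥ := fun h => hU1 (le_bot_iff.mp (h ▸ hUS))
  have hnormW : ∀ {X : Subgroup G}, IsPGroup p X → ∀ {x : G}, x ∈ normalizer (X : Set G) →
      x ∈ normalizer ((Cfsg.inducedFunctor W X : Subgroup G) : Set G) := fun {X} hX x hx => by
    refine Control.mem_normalizer_of_cjSub_eq (((hWc X hX).2.2 x).symm.trans ?_)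
    exact congrArg _ (Control.cjSub_eq_of_mem hx)
  have hSP : S₁ = (P : Subgroup G) := by
    by_contra hne
    have hlt : S₁ < (P : Subgroup G) := lt_of_le_of_ne hSR hne
    obtain ⟨x, hx, hxS⟩ := SetLike.exists_of_lt (Fusion.lt_inf_normalizer_of_isPGroup P.2 hlt)
    obtain ⟨hxP, hxn⟩ := hx
    have hS' : S₁ ⊔ zpowers x ≤ normalizer ((Cfsg.inducedFunctor W S₁ : Subgroup G) : Set G) :=
      sup_le (fun s hs => hnormW hS₁p (le_normalizer hs)) (zpowers_le.mpr (hnormW hS₁p hxn))
    have hWn : Cfsg.HasNormalPComplement p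
        ↥(normalizer ((Cfsg.inducedFunctor W S₁ : Subgroup G) : Set G)) := by
      by_contra hc
      have h1 := (hUmax _ (hS₁p.to_le (hWc _ hS₁p).1) ((hWc _ hS₁p).2.1 hS1) hc).1
      obtain ⟨i, hi⟩ := IsPGroup.iff_card.mp (P.2.to_le (sup_le hSR (zpowers_le.mpr hxP)) :
        IsPGroup p (S₁ ⊔ zpowers x : Subgroup G))
      have h2 : Nat.card S₁ < Nat.card (S₁ ⊔ zpowers x : Subgroup G) :=
        Core.card_lt_of_lt (lt_of_le_of_ne le_sup_left
          fun h => hxS (h ▸ mem_sup_right (mem_zpowers x)))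
      have h3 : Nat.card S₁ = p ^ (Nat.card N).factorization p := by
        rw [hS₁, card_map_of_injective N.subtype_injective, T.card_eq_multiplicity]
      rw [h3, hi] at h2
      have h4 := (Nat.pow_lt_pow_iff_right hpp.one_lt).mp h2
      have h5 : i ≤ (Nat.card (normalizer
          ((Cfsg.inducedFunctor W S₁ : Subgroup G) : Set G))).factorization p :=
        (hpp.pow_dvd_iff_le_factorization Nat.card_pos.ne').mp (hi ▸ card_dvd_of_le hS')
      omega
    refine hUn (hsub N (fun ht => hxS ?_) T hWn)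
    have h1 : (P : Subgroup G).subgroupOf N = (T : Subgroup N) :=
      T.3 (P.2.comap_subtype (K := N)) (by rw [hTS]; exact fun y hy => hSR hy)
    have h2 : (⟨x, ht ▸ mem_top x⟩ : N) ∈ (P : Subgroup G).subgroupOf N := hxP
    rw [h1] at h2
    exact mem_map_of_mem N.subtype h2
  have hNtop : N = ⊤ := by
    by_contra hne
    refine hUn (hsub N hne T ?_)
    rw [← hS₁, hSP]; exact hN
  set O := Cfsg.pCore p G with hO
  have hUO : U ≤ O := by
    have := normalizer_eq_top_iff.mp hNtop
    exact Core.le_pCore hU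
  have hOp : IsPGroup p O := Core.pCore_isPGroup
  have hO1 : O ≠ ⊥ := fun h => hU1 (le_bot_iff.mp (h ▸ hUO))
  have hOP : O ≤ (P : Subgroup G) := Core.pCore_le_sylow P
  have hWn : ¬ (Cfsg.inducedFunctor W (P : Subgroup G)).Normal := fun h =>
    htopc (normalizer_eq_top_iff.mpr h) hN
  have hlocal : ∀ X : Subgroup G, IsPGroup p X → O < X → (P : Subgroup G) ≤ normalizer (X : Set G) →
      Cfsg.HasNormalPComplement p (normalizer (X : Set G)) := by
    intro X hX hlt hPX
    by_contra hc
    have h1 := hUmax X hX (fun h => by rw [h] at hlt; exact not_lt_bot hlt) hc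
    have h2 : (Nat.card (normalizer (X : Set G))).factorization p =
        (Nat.card N).factorization p := by
      refine le_antisymm h1.1 ((hpp.pow_dvd_iff_le_factorization Nat.card_pos.ne').mp ?_)
      rw [hNtop, card_top, ← P.card_eq_multiplicity]
      exact card_dvd_of_le hPX
    have h3 := h1.2 h2
    have h4 : Nat.card U ≤ Nat.card O := Nat.le_of_dvd Nat.card_pos (card_dvd_of_le hUO)
    have := Core.card_lt_of_lt hlt
    omega
  -- `G / O`
  set f := QuotientGroup.mk' O with hf
  have hfs := QuotientGroup.mk'_surjective O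
  have hfker : f.ker = O := QuotientGroup.ker_mk' O
  have hfO : ∀ y ∈ O, f y = 1 := fun y hy => (QuotientGroup.eq_one_iff y).mpr hy
  have hcomap : ∀ X : Subgroup (G ⧸ O), O ≤ X.comap f := fun X y hy =>
    mem_comap.mpr ((hfO y hy).symm ▸ one_mem X)
  set Pb : Subgroup (G ⧸ O) := (P : Subgroup G).map f with hPb
  have hPbp : IsPGroup p Pb := P.2.map f
  have hPb1 : Pb ≠ ⊥ := fun h => hWn <| by
    rw [hPb, Subgroup.map_eq_bot_iff, hfker] at h
    refine normalizer_eq_top_iff.mp (eq_top_iff.mpr fun g _ => hnormW P.2 ?_)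
    rw [le_antisymm h hOP, hO, normalizer_eq_top_iff.mpr inferInstance]
    exact mem_top g
  have hQ : Cfsg.HasNormalPComplement p (G ⧸ O) := by
    refine IH _ (Core.card_quotient_lt hO1)
      (fun Y _ _ hY => hloc Y (hY.trans (Control.isSec_of_surjective hfs))) (P.mapSurjective hfs) ?_ rfl
    rw [Sylow.coe_mapSurjective, ← hPb]
    have hWb := Control.isConjugacyFunctor_induced (X := G ⧸ O) hW Pb hPbp
    set X := Cfsg.inducedFunctor W Pb
    have hlt : O < X.comap f := lt_of_le_of_ne (hcomap X) fun he => hWb.2.1 hPb1 (by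
        rw [← map_comap_eq_self_of_surjective hfs X, ← he, Subgroup.map_eq_bot_iff, hfker])
    have hXP : X.comap f ≤ (P : Subgroup G) := by
      refine (Subgroup.comap_mono hWb.1).trans ?_
      rw [hPb, Subgroup.comap_map_eq, hfker]
      exact sup_le le_rfl hOP
    have hPX : Pb ≤ normalizer (X : Set (G ⧸ O)) :=
      Control.self_le_normalizer_functor (Control.isConjugacyFunctor_induced hW) hPbp
    have h1 := hlocal _ (P.2.to_le hXP) hlt
      (fun y hy => le_normalizer_comap f (hPX (mem_map_of_mem f hy)))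
    refine Fusion.hasNormalPComplement_map f h1 (fun y hy => ?_)
    obtain ⟨g, rfl⟩ := hfs y
    exact mem_map_of_mem f (le_normalizer_comap f hy)
  set Mb := Cfsg.pResidual p (G ⧸ O) with hMb
  have hMbc : (Nat.card Mb).Coprime p := Fusion.coprime_card_pResidual_of_hasNormalPComplement hQ
  set M := Mb.comap f with hM
  have hMn : M.Normal := Normal.comap inferInstance f
  have hOM : O ≤ M := hcomap Mb
  have htop : Mb ⊔ Pb = ⊤ := by
    have := Fusion.sylow_sup_pResidual (P.mapSurjective hfs)
    rwa [Sylow.coe_mapSurjective, sup_comm] at this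
  have hdisj : Pb ⊓ Mb = ⊥ := Layer.inf_eq_bot_of_isPGroup hPbp hMbc
  have hsc : centralizer (O : Set G) ≤ O := by
    refine Layer.pCoreSelfCentral_of_isPSolvable ?_ hO'
    refine ⟨3, ![⊥, O, M, ⊤], rfl, rfl, ?_, ?_, ?_⟩
    · rw [Fin.monotone_iff_le_succ]
      intro i
      fin_cases i
      · exact bot_le
      · exact hOM
      · exact le_top
    · intro i
      fin_cases i
      · exact (inferInstance : (⊥ : Subgroup G).Normal)
      · exact (inferInstance : (Cfsg.pCore p G).Normal)
      · exact hMn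
      · exact (inferInstance : (⊤ : Subgroup G).Normal)
    · intro i
      fin_cases i
      · left
        obtain ⟨m, hm⟩ := IsPGroup.iff_card.mp hOp
        exact ⟨m, by show (⊥ : Subgroup G).relIndex O = _; rw [relIndex_bot_left, hm]⟩
      · right
        show (O.relIndex M).Coprime p
        have e := Subgroup.relIndex_ker f (K := M)
        rw [hfker] at e
        rw [e, hM, map_comap_eq_self_of_surjective hfs]
        exact hMbc
      · left
        obtain ⟨m, hm⟩ := Fusion.index_pResidual_eq_pow (G := G ⧸ O) (p := p)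
        exact ⟨m, by show M.relIndex ⊤ = _; rw [relIndex_top_right, hM,
          index_comap_of_surjective _ hfs, hm]⟩
  -- the Sylow subgroup is maximal
  have hPmax : ∀ H : Subgroup G, (P : Subgroup G) ≤ H → H ≠ ⊤ → H ≤ (P : Subgroup G) := by
    intro H hPH hH
    have hHc : Cfsg.HasNormalPComplement p H := by
      refine hsub H hH (P.subtype hPH) ?_
      rw [Sylow.coe_subtype, map_subgroupOf_eq_of_le hPH]
      exact hN
    set K : Subgroup G := (Cfsg.pResidual p H).map H.subtype with hK
    have hKc : (Nat.card K).Coprime p := by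
      rw [hK, card_map_of_injective H.subtype_injective]
      exact Fusion.coprime_card_pResidual_of_hasNormalPComplement hHc
    have hOH : O ≤ H := hOP.trans hPH
    have hKn : O ≤ normalizer (K : Set G) := fun y hy => le_normalizer_map H.subtype
      ⟨⟨y, hOH hy⟩, (normalizer_eq_top (H := Cfsg.pResidual p H)).ge (mem_top _), rfl⟩
    have hK1 : K = ⊥ := by
      refine Layer.eq_bot_of_isPGroup_of_coprime (hOp.to_le (le_trans ?_ hsc)) hKc
      rw [← commutator_eq_bot_iff_le_centralizer, Subgroup.commutator_comm, ← le_bot_iff,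
        ← Layer.inf_eq_bot_of_isPGroup hOp hKc]
      exact le_inf (commutator_le_left _ _) (le_normalizer_iff_commutator_le_right.mp hKn)
    have hHp : IsPGroup p H := by
      have hb : Cfsg.pResidual p H = ⊥ := by
        rw [hK, Subgroup.map_eq_bot_iff, ker_subtype, le_bot_iff] at hK1; exact hK1
      exact (Fusion.isPGroup_quotient_pResidual (p := p) (G := H)).of_equiv
        ((QuotientGroup.quotientMulEquivOfEq hb).trans QuotientGroup.quotientBot)
    exact (P.3 hHp hPH).le
  have hmin : ∀ X : Subgroup (G ⧸ O), X ≤ Mb → Pb ≤ normalizer (X : Set (G ⧸ O)) →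
      X = ⊥ ∨ X = Mb := by
    intro X hX hXn
    rcases eq_or_ne ((X ⊔ Pb).comap f) ⊤ with ht | ht
    · right
      have ht' : X ⊔ Pb = ⊤ := by
        rw [← map_comap_eq_self_of_surjective hfs (X ⊔ Pb), ht, map_top_of_surjective f hfs]
      refine le_antisymm hX fun y hy => ?_
      have hy' : y ∈ ((X ⊔ Pb : Subgroup _) : Set (G ⧸ O)) := by rw [ht']; trivial
      rw [coe_mul_of_right_le_normalizer_left _ _ hXn] at hy'
      obtain ⟨a, ha, b, hb, rfl⟩ := hy'
      have : b ∈ Pb ⊓ Mb := ⟨hb, by
        have := mul_mem (Subgroup.inv_mem _ (hX ha)) hy; rwa [inv_mul_cancel_left] at this⟩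
      rw [hdisj, mem_bot] at this
      simpa [this] using ha
    · left
      refine le_bot_iff.mp (hdisj ▸ le_inf ?_ hX)
      have h1 := hPmax _ (fun y hy => mem_comap.mpr (mem_sup_right (mem_map_of_mem f hy))) ht
      intro y hy
      obtain ⟨z, rfl⟩ := hfs y
      exact mem_map_of_mem f (h1 (mem_sup_left hy))
  have hMb1 : Mb ≠ ⊥ := by
    intro h
    refine hG (Fusion.hasNormalPComplement_of_isPGroup ?_)
    rw [h, bot_sup_eq] at htop
    have hsupP : (P : Subgroup G) = ⊤ := by
      rw [← sup_eq_left.mpr hOP, ← hfker, ← Subgroup.comap_map_eq, ← hPb, htop, Subgroup.comap_top]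
    exact (hsupP ▸ P.2 : IsPGroup p (⊤ : Subgroup G)).of_equiv topEquiv
  have hMbcomm : IsMulCommutative Mb := by
    obtain ⟨q, hq, hqd⟩ := Nat.exists_prime_and_dvd
      (fun h => hMb1 (eq_bot_of_card_eq Mb h))
    have := Fact.mk hq
    obtain ⟨Y, hY⟩ := Coprime.exists_invariant_sylow (A := Pb) (K := Mb) le_normalizer_of_normal
      (Layer.coprime_card_of_isPGroup hPbp hMbc) (Or.inl (Layer.isSolvable_of_isPGroup hPbp)) q
    have hYtop : (Y : Subgroup Mb).map Mb.subtype = Mb := by
      refine (hmin _ (map_subtype_le _) hY).resolve_left fun h => ?_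
      rw [Subgroup.map_eq_bot_iff, ker_subtype, le_bot_iff] at h
      exact Y.ne_bot_of_dvd_card hqd h
    have hMq : IsPGroup q Mb := hYtop ▸ (Y.2.map Mb.subtype)
    rcases hmin ⁅Mb, Mb⁆ (commutator_le_self Mb) le_normalizer_of_normal with h | h
    · exact ⟨⟨fun a b => Subtype.ext (commutatorElement_eq_one_iff_mul_comm.mp
        (mem_bot.mp (h ▸ commutator_mem_commutator a.2 b.2)))⟩⟩
    · exact absurd h (Fusion.isPGroup_commutator_lt hMq hMb1).ne
  have hab : AbTop p G := by
    refine ⟨O, M, inferInstance, hMn, hOp, Nat.card Mb, Nat.card_pos, hMbc, ?_, ?_, fun x => ?_⟩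
    · intro a ha b hb
      refine (QuotientGroup.eq_one_iff _).mp (show f ⁅a, b⁆ = 1 from ?_)
      rw [map_commutatorElement, commutatorElement_eq_one_iff_mul_comm]
      exact congrArg (fun z : Mb => (z : G ⧸ O)) (hMbcomm.is_comm.comm ⟨f a, ha⟩ ⟨f b, hb⟩)
    · intro a ha
      refine (QuotientGroup.eq_one_iff _).mp (show f (a ^ Nat.card Mb) = 1 from ?_)
      rw [map_pow]
      exact congrArg (fun z : Mb => (z : G ⧸ O)) (pow_card_eq_one' (x := (⟨f a, ha⟩ : Mb)))
    · obtain ⟨a, ha⟩ := Fusion.isPGroup_quotient_pResidual (p := p) (G := G ⧸ O)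
        (QuotientGroup.mk (f x))
      rw [← QuotientGroup.mk_pow, QuotientGroup.eq_one_iff, ← map_pow] at ha
      exact ⟨a, mem_comap.mpr ha⟩
  have hPco : IsCoatom (P : Subgroup G) := by
    refine ⟨fun h => ?_, fun H hlt => by_contra fun hH => hlt.not_ge (hPmax H hlt.le hH)⟩
    exact hG (Fusion.hasNormalPComplement_of_isPGroup
      ((h ▸ P.2 : IsPGroup p (⊤ : Subgroup G)).of_equiv topEquiv))
  exact hloc G Control.IsSec.refl hsc hQ hab P hPco hN hWn

theorem hasNormalPComplement_of_loc {W : ∀ (Q : Type u) [Group Q], Subgroup Q}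
    (hW : Cfsg.IsCharPFunctor.{u} p W) {G : Type u} [Group G] [Finite G]
    (hloc : ∀ (Y : Type u) [Group Y] [Finite Y], Control.IsSec Y G → LocW W p Y) (S : Sylow p G)
    (hN : Cfsg.HasNormalPComplement p
      ↥(normalizer ((Cfsg.inducedFunctor W (S : Subgroup G) : Subgroup G) : Set G))) :
    Cfsg.HasNormalPComplement p G := by
  refine hasNormalPComplement_of_minimal hW (fun Y _ _ hY hC _ hab T _ _ hT => ?_) S hN
  obtain ⟨g, -, -, U, V, hch, hU, hit, hn⟩ := hloc Y hY hC T hT
  have := hch.2.2.1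
  exact hn (commutator_zpowers_le (trivOn_of_abTop hab hch (Core.pCore_isPGroup.to_le hU) hit))

/-- If `W(T)` controls strong fusion for every Sylow subgroup `T`, then `W` controls strong fusion. -/
theorem gFus_of_controlsStrongFusion {W : ∀ (Q : Type u) [Group Q], Subgroup Q}
    (hW : Cfsg.IsCharPFunctor.{u} p W) {X : Type u} [Group X] [Finite X]
    (h : ∀ T : Sylow p X, Cfsg.ControlsStrongFusion p (Cfsg.inducedFunctor W (T : Subgroup X))) :
    Control.GFus {W} p X := by
  obtain ⟨T₀⟩ := (inferInstance : Nonempty (Sylow p X))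
  obtain ⟨T, hUT, hfus⟩ := h T₀
  have hWc := Control.isConjugacyFunctor_induced (X := X) hW
  set N := normalizer ((Cfsg.inducedFunctor W (T₀ : Subgroup X) : Subgroup X) : Set X) with hNdef
  set U := Cfsg.inducedFunctor W (T₀ : Subgroup X)
  have hT₀N : (T₀ : Subgroup X) ≤ N := Control.self_le_normalizer_functor hWc T₀.2
  -- the Sylow subgroup of the hypothesis normalises `U`
  have hTN : (T : Subgroup X) ≤ N := by
    intro t ht
    obtain ⟨y, hy, he⟩ := (hfus (U : Set X) (SetLike.coe_subset_coe.mpr hUT)).2 t (by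
      rintro _ ⟨a, ha, rfl⟩
      exact mul_mem (mul_mem ht (hUT ha)) (inv_mem ht))
    refine Control.mem_normalizer_of_cjSub_eq (eq_of_le_of_card_ge ?_ (Control.card_cjSub t U).ge)
    rintro _ ⟨a, ha, rfl⟩
    change t * a * t⁻¹ ∈ U
    rw [he a ha]
    exact (mem_normalizer_iff.mp hy a).mp ha
  obtain ⟨d, hd, hdT⟩ := ((Control.sylIn_top T₀).mono hT₀N le_top).exists_conj
    ((Control.sylIn_top T).mono hTN le_top)
  refine Control.famFus_iff.mpr ⟨_, Control.sylIn_top T, fun A g _ hA hgA => ?_⟩
  obtain ⟨y, hy, he⟩ := (hfus A hA).2 g hgA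
  refine ⟨y * 1, .step .one ⟨_, ⟨W, rfl, rfl⟩, rfl⟩ ?_ ?_, fun a ha => ?_⟩
  · refine mem_inf.mpr ⟨mem_top y, ?_⟩
    have h1 : U = Control.cjSub d (Cfsg.inducedFunctor W (T : Subgroup X)) :=
      (congrArg _ hdT.symm).trans ((hWc _ T.2).2.2 d)
    have h2 : Cfsg.inducedFunctor W (T : Subgroup X) = U := by
      rw [← Control.cjSub_eq_of_mem (g := d⁻¹) (H := U) (inv_mem hd), h1, Control.cjSub_cjSub,
        inv_mul_cancel, Control.cjSub_one]
    show y ∈ normalizer ((Cfsg.inducedFunctor W (T : Subgroup X) : Subgroup X) : Set X)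
    rw [h2]
    exact hy
  · rintro _ ⟨a, ha, rfl⟩
    rw [mul_one]
    change y * a * y⁻¹ ∈ (T : Subgroup X)
    rw [← he a ha]
    exact hgA ⟨a, ha, rfl⟩
  · rw [mul_one]
    exact (he a ha).symm

/-- A constrained group with a normal `p`-complement is a `p`-group. -/
theorem isPGroup_of_selfCentral_of_complement {X : Type u} [Group X] [Finite X]
    (hC : centralizer (Cfsg.pCore p X : Set X) ≤ Cfsg.pCore p X)
    (h : Cfsg.HasNormalPComplement p X) : IsPGroup p X := by
  have hc := Fusion.coprime_card_pResidual_of_hasNormalPComplement h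
  have hb : Cfsg.pResidual p X = ⊥ := by
    refine Layer.eq_bot_of_isPGroup_of_coprime (Core.pCore_isPGroup.to_le (le_trans ?_ hC)) hc
    rw [← commutator_eq_bot_iff_le_centralizer, ← le_bot_iff,
      ← Layer.inf_eq_bot_of_isPGroup Core.pCore_isPGroup hc]
    exact le_inf (commutator_le_right _ _) (commutator_le_left _ _)
  exact (Fusion.isPGroup_quotient_pResidual (p := p) (G := X)).of_equiv
    ((QuotientGroup.quotientMulEquivOfEq hb).trans QuotientGroup.quotientBot)

end Cfsg.Agent.KInf
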