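import Cfsg.Agent.Control.Chief

/-!
# Iterated commutators with one element on chief factors
-/

namespace Cfsg.Agent.KInf

open Subgroup
open scoped commutatorElement

set_option linter.unusedSectionVars false

variable {G H : Type*} [Group G] [Group H]

/-- `x⁻¹ (g x g⁻¹)` -/
def dg (g x : G) : G := x⁻¹ * (g * x * g⁻¹)

theorem dg_eq (g x : G) : dg g x = ⁅x⁻¹, g⁆ := by rw [dg, commutatorElement_def]; group

theorem mul_dg (g x : G) : x * dg g x = g * x * g⁻¹ := mul_inv_cancel_left _ _

theorem map_dg (f : G →* H) (g x : G) : f (dg g x) = dg (f g) (f x) := by simp [dg]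

theorem map_dg_iterate (f : G →* H) (g : G) (k : ℕ) (x : G) :
    f ((dg g)^[k] x) = (dg (f g))^[k] (f x) := by
  induction k with
  | zero => rfl
  | succ k ih => rw [Function.iterate_succ_apply', Function.iterate_succ_apply', map_dg, ih]

theorem dg_mem {E : Subgroup G} [E.Normal] (g : G) {x : G} (hx : x ∈ E) : dg g x ∈ E :=
  mul_mem (inv_mem hx) (Normal.conj_mem ‹_› x hx g)

theorem dg_iterate_mem {E : Subgroup G} [E.Normal] (g : G) {x : G} (hx : x ∈ E) (k : ℕ) :
    (dg g)^[k] x ∈ E := by
  induction k with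
  | zero => exact hx
  | succ k ih => rw [Function.iterate_succ_apply']; exact dg_mem g ih

theorem dg_iterate_mem_iter (N : Subgroup G) (g : G) {x : G} (hx : x ∈ N) (k : ℕ) :
    (dg g)^[k] x ∈ Cfsg.iterCommutator N (zpowers g) k := by
  induction k with
  | zero => exact hx
  | succ k ih =>
    rw [Function.iterate_succ_apply', dg_eq]
    exact commutator_mem_commutator (inv_mem ih) (mem_zpowers g)

theorem iter_mono {N M : Subgroup G} (h : N ≤ M) (A : Subgroup G) (k : ℕ) :
    Cfsg.iterCommutator N A k ≤ Cfsg.iterCommutator M A k := by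
  induction k with
  | zero => exact h
  | succ k ih => exact commutator_mono ih le_rfl

theorem iter_succ_le (N : Subgroup G) [N.Normal] (A : Subgroup G) :
    ∀ k, Cfsg.iterCommutator N A (k + 1) ≤ Cfsg.iterCommutator N A k
  | 0 => commutator_le_left N A
  | k + 1 => commutator_mono (iter_succ_le N A k) le_rfl

theorem iter_anti (N : Subgroup G) [N.Normal] (A : Subgroup G) {k m : ℕ} (h : k ≤ m) :
    Cfsg.iterCommutator N A m ≤ Cfsg.iterCommutator N A k := by
  induction h with
  | refl => exact le_rfl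
  | @step m _ ih => exact (iter_succ_le N A m).trans ih

open scoped IsMulCommutative in
/-- On an abelian normal subgroup the iterated commutator vanishes once `dg` iterates to `1`. -/
theorem iter_eq_bot_of_dg [Finite G] {N : Subgroup G} [N.Normal] [IsMulCommutative N] (g : G)
    (n : ℕ) (h : ∀ u ∈ N, (dg g)^[n] u = 1) : Cfsg.iterCommutator N (zpowers g) n = ⊥ := by
  let σ : N →* N := (MulAut.conjNormal (H := N) g).toMonoidHom
  let δ : N →* N := (MonoidHom.id N)⁻¹ * σ
  have hδ : ∀ a : N, ((δ a : N) : G) = dg g a := fun a => by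
    simp [δ, σ, dg, MulAut.conjNormal_apply]
  let D : ℕ → Subgroup N := fun k => (Subgroup.map δ)^[k] ⊤
  have hD : ∀ k (u : N), u ∈ D k → ∃ v : N, (u : G) = (dg g)^[k] v := by
    intro k
    induction k with
    | zero => exact fun u _ => ⟨u, rfl⟩
    | succ k ih =>
      intro u hu
      simp only [D, Function.iterate_succ_apply'] at hu
      obtain ⟨w, hw, rfl⟩ := hu
      obtain ⟨v, hv⟩ := ih w hw
      exact ⟨v, by rw [hδ, hv, Function.iterate_succ_apply']⟩
  have hinv : ∀ k, ∀ u ∈ D k, σ u ∈ D k := by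
    intro k
    induction k with
    | zero => exact fun _ _ => mem_top _
    | succ k ih =>
      intro u hu
      simp only [D, Function.iterate_succ_apply'] at hu ⊢
      obtain ⟨w, hw, rfl⟩ := hu
      refine ⟨σ w, ih w hw, ?_⟩
      simp [δ]
  have key : ∀ k, Cfsg.iterCommutator N (zpowers g) k ≤ (D k).map N.subtype := by
    intro k
    induction k with
    | zero => intro x hx; exact ⟨⟨x, hx⟩, mem_top _, rfl⟩
    | succ k ih =>
      refine le_trans (commutator_mono ih le_rfl) (commutator_le.mpr ?_)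
      rintro _ ⟨a, ha, rfl⟩ z hz
      obtain ⟨i, rfl⟩ := mem_powers_iff_mem_zpowers.mpr hz
      clear hz
      induction i with
      | zero => simp
      | succ i ihi =>
        obtain ⟨b, hb, hbe⟩ := ihi
        have h1 : δ a⁻¹ ∈ D (k + 1) := by
          simp only [D, Function.iterate_succ_apply']
          exact mem_map_of_mem δ (inv_mem ha)
        refine ⟨δ a⁻¹ * σ b, mul_mem h1 (hinv (k + 1) b hb), ?_⟩
        change (δ a⁻¹ : G) * (σ b : G) = ⁅(a : G), g ^ (i + 1)⁆
        rw [hδ, show ((σ b : N) : G) = g * (b : G) * g⁻¹ from MulAut.conjNormal_apply g b,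
          show (b : G) = ⁅(a : G), g ^ i⁆ from hbe, dg, commutatorElement_def, commutatorElement_def,
          pow_succ', InvMemClass.coe_inv]
        group
  refine eq_bot_iff.mpr ((key n).trans ?_)
  rintro _ ⟨u, hu, rfl⟩
  obtain ⟨v, hv⟩ := hD n u hu
  exact mem_bot.mpr (hv.trans (h v v.2))

theorem iter_le_of_dg [Finite G] {E₀ E₁ : Subgroup G} [E₀.Normal] [E₁.Normal]
    (hab : ⁅E₁, E₁⁆ ≤ E₀) (g : G) (n : ℕ) (h : ∀ x ∈ E₁, (dg g)^[n] x ∈ E₀) :
    Cfsg.iterCommutator E₁ (zpowers g) n ≤ E₀ := by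
  set f := QuotientGroup.mk' E₀
  have hn : (E₁.map f).Normal := (‹E₁.Normal›).map f (QuotientGroup.mk'_surjective E₀)
  have hc : IsMulCommutative (E₁.map f) := by
    rw [← le_centralizer_iff_isMulCommutative, ← commutator_eq_bot_iff_le_centralizer,
      ← map_commutator, Subgroup.map_eq_bot_iff, QuotientGroup.ker_mk']
    exact hab
  have := iter_eq_bot_of_dg (N := E₁.map f) (f g) n (by
    rintro _ ⟨x, hx, rfl⟩
    rw [← map_dg_iterate]
    exact (QuotientGroup.eq_one_iff _).mpr (h x hx))
  rwa [← MonoidHom.map_zpowers, ← Control.map_iterCommutator, Subgroup.map_eq_bot_iff,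
    QuotientGroup.ker_mk'] at this

/-- `g` kills in `n` steps every chief factor inside `E`. -/
def Good (g : G) (n : ℕ) (E : Subgroup G) : Prop :=
  ∀ U V : Subgroup G, Cfsg.IsChiefFactor U V → U ≤ E → Cfsg.iterCommutator U (zpowers g) n ≤ V

theorem Good.mono_nat {g : G} {n m : ℕ} {E : Subgroup G} (h : Good g n E) (hnm : n ≤ m) :
    Good g m E := fun U V hUV hU =>
  have := hUV.2.1
  (iter_anti U _ hnm).trans (h U V hUV hU)

theorem good_step {g : G} {n : ℕ} {E₀ E₁ : Subgroup G} [E₀.Normal] (h₀ : Good g n E₀)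
    (hstep : Cfsg.iterCommutator E₁ (zpowers g) n ≤ E₀) : Good g n E₁ := by
  intro U V hUV hU
  obtain ⟨hlt, hUn, hVn, hch⟩ := hUV
  rcases hch ((U ⊓ E₀) ⊔ V) inferInstance le_sup_right (sup_le inf_le_left hlt.le) with he | he
  · refine le_trans (le_inf (iter_anti U _ (Nat.zero_le n)) ((iter_mono hU _ n).trans hstep)) ?_
    exact le_sup_left.trans he.le
  · have hch' : Cfsg.IsChiefFactor (U ⊓ E₀) (V ⊓ (U ⊓ E₀)) := by
      refine ⟨lt_of_le_of_ne inf_le_right fun e => hlt.ne ?_, inferInstance, inferInstance,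
        fun N hN h1 h2 => ?_⟩
      · rw [inf_eq_right] at e
        rw [← he, sup_eq_right.mpr e]
      · have hded : (N ⊔ V) ⊓ (U ⊓ E₀) ≤ N := by
          rintro x ⟨hx, hx2⟩
          obtain ⟨a, ha, b, hb, rfl⟩ := mem_sup_of_normal_right.mp hx
          refine mul_mem ha (h1 (mem_inf.mpr ⟨hb, ?_⟩))
          simpa using mul_mem (inv_mem (h2 ha)) hx2
        rcases hch (N ⊔ V) inferInstance le_sup_right
          (sup_le (h2.trans inf_le_left) hlt.le) with h3 | h3
        · exact Or.inl (le_antisymm (le_inf (le_sup_left.trans h3.le) h2) h1)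
        · exact Or.inr (le_antisymm h2 (le_trans (le_inf (inf_le_left.trans h3.ge) le_rfl) hded))
    have h2 := h₀ _ _ hch' inf_le_right
    set f := QuotientGroup.mk' V
    have hUf : U.map f = (U ⊓ E₀).map f := by
      conv_lhs => rw [← he]
      rw [Subgroup.map_sup, QuotientGroup.map_mk'_self, sup_bot_eq]
    have h3 : (Cfsg.iterCommutator U (zpowers g) n).map f ≤ ⊥ := by
      rw [Control.map_iterCommutator, hUf, ← Control.map_iterCommutator]
      exact (map_mono (h2.trans inf_le_left)).trans (QuotientGroup.map_mk'_self V).le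
    rw [le_bot_iff, Subgroup.map_eq_bot_iff, QuotientGroup.ker_mk'] at h3
    exact h3

theorem good_bot (g : G) (n : ℕ) : Good g n (⊥ : Subgroup G) := fun U V hUV hU =>
  absurd ((le_bot_iff.mp hU).le.trans bot_le : U ≤ V) hUV.1.not_ge

end Cfsg.Agent.KInf
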