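import Cfsg.Agent.Techniques.KSequence
import Cfsg.Agent.Core.Solvable

/-!
# The K-infinity subgroups: self-centralisation, functoriality
-/

namespace Cfsg.Agent.KInf

open Subgroup
open scoped commutatorElement

set_option linter.unusedSectionVars false

universe u

variable {P Q : Type*} [Group P] [Group Q]

/-! ### abelian normal subgroups -/

theorem mem_classTwo_iff {B : Subgroup P} :
    B ∈ Cfsg.classTwoSubgroups P ↔ ⁅⁅B, B⁆, B⁆ = ⊥ :=
  (commutator_eq_bot_iff_le_centralizer).symm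

theorem commutator_self_eq_bot {A : Subgroup P} (hA : IsMulCommutative A) : ⁅A, A⁆ = ⊥ :=
  commutator_eq_bot_iff_le_centralizer.mpr (le_centralizer_iff_isMulCommutative.mpr hA)

theorem abelian_mem_classTwo {A : Subgroup P} (hA : IsMulCommutative A) :
    A ∈ Cfsg.classTwoSubgroups P := by
  rw [mem_classTwo_iff, commutator_self_eq_bot hA, Subgroup.commutator_bot_left]

theorem abelian_normal_mem_upper {A : Subgroup P} [A.Normal] (hA : IsMulCommutative A)
    (R : Subgroup P) : A ∈ Cfsg.kUpperStarFamily R :=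
  ⟨abelian_mem_classTwo hA,
    le_inf (commutator_le_left _ _)
      ((commutator_le_left _ _).trans (le_centralizer_iff_isMulCommutative.mpr hA))⟩

theorem abelian_normal_mem_lower {A : Subgroup P} [A.Normal] (hA : IsMulCommutative A)
    (R : Subgroup P) : A ∈ Cfsg.kLowerStarFamily R :=
  ⟨abelian_mem_classTwo hA, fun _ _ => by rw [normalizer_eq_top_iff.mpr ‹A.Normal›]; exact mem_top _,
    fun _ _ _ _ _ _ => le_inf (commutator_le_left _ _)
      ((commutator_le_left _ _).trans (le_centralizer_iff_isMulCommutative.mpr hA))⟩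

theorem abelian_normal_le_even {A : Subgroup P} [A.Normal] (hA : IsMulCommutative A) (n : ℕ) :
    A ≤ Cfsg.kSeqEven P n :=
  le_sSup (abelian_normal_mem_lower hA _)

theorem abelian_normal_le_odd {A : Subgroup P} [A.Normal] (hA : IsMulCommutative A) :
    ∀ n, A ≤ Cfsg.kSeqOdd P n
  | 0 => le_top
  | _ + 1 => le_sSup (abelian_normal_mem_upper hA _)

theorem abelian_normal_le_kInf {A : Subgroup P} [A.Normal] (hA : IsMulCommutative A) :
    A ≤ Cfsg.kInfLower P ∧ A ≤ Cfsg.kInfUpper P :=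
  ⟨(abelian_normal_le_even hA 0).trans (le_iSup (Cfsg.kSeqEven P) 0),
    le_iInf (abelian_normal_le_odd hA)⟩

/-! ### maximal members contain their centralisers -/

theorem exists_centralizer_extension [Finite P] {p : ℕ} [Fact p.Prime] (hP : IsPGroup p P)
    {B : Subgroup P} (hC : ¬ centralizer (B : Set P) ≤ B) :
    ∃ x ∈ centralizer (B : Set P), x ∉ B ∧
      ∀ h ∈ normalizer (B : Set P), ⁅x, h⁆ ∈ B ⊓ centralizer (B : Set P) := by
  set H := normalizer (B : Set P)
  set C := centralizer (B : Set P) with hCdef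
  have hCH : C ≤ H := fun c hc => by
    refine mem_normalizer_iff.mpr fun y => ⟨fun hy => ?_, fun hy => ?_⟩
    · rwa [← mem_centralizer_iff.mp hc y hy, mul_inv_cancel_right]
    · have := mem_centralizer_iff.mp hc _ hy
      rw [show c * y * c⁻¹ * c = c * y by group] at this
      rw [mul_left_cancel this]
      exact hy
  have hBn : (B.subgroupOf H).Normal := inferInstance
  set N := B.subgroupOf H
  set f := QuotientGroup.mk' N
  have : Group.IsNilpotent (↥H ⧸ N) := ((hP.to_subgroup H).to_quotient N).isNilpotent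
  have hCn : (C.subgroupOf H).Normal := by
    refine ⟨fun c hc h => ?_⟩
    refine mem_centralizer_iff.mpr fun y hy => ?_
    have hy' : (h : P)⁻¹ * y * h ∈ B := by
      simpa using (mem_normalizer_iff.mp (inv_mem h.2) y).mp hy
    have := mem_centralizer_iff.mp (show (c : P) ∈ C from hc) _ hy'
    change y * ((h : P) * c * (h : P)⁻¹) = (h : P) * c * (h : P)⁻¹ * y
    calc y * ((h : P) * c * (h : P)⁻¹) = h * ((h : P)⁻¹ * y * h * c) * (h : P)⁻¹ := by group
      _ = _ := by rw [this]; group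
  have hne : (C.subgroupOf H).map f ≠ ⊥ := fun e => by
    rw [Subgroup.map_eq_bot_iff, QuotientGroup.ker_mk'] at e
    exact hC fun c hc => e (show (⟨c, hCH hc⟩ : H) ∈ C.subgroupOf H from hc)
  have : ((C.subgroupOf H).map f).Normal := hCn.map f (QuotientGroup.mk'_surjective N)
  obtain ⟨z, hz, hz1⟩ :=
    ((C.subgroupOf H).map f ⊓ center (↥H ⧸ N)).bot_or_exists_ne_one.resolve_left
      (Core.inf_center_ne_bot hne)
  obtain ⟨x, hx, rfl⟩ := hz.1
  refine ⟨x, hx, fun hxB => hz1 ((QuotientGroup.eq_one_iff x).mpr hxB), fun h hh => ⟨?_, ?_⟩⟩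
  · have h1 : f ⁅x, ⟨h, hh⟩⁆ = 1 := by
      rw [map_commutatorElement, commutatorElement_eq_one_iff_mul_comm]
      exact (mem_center_iff.mp hz.2 _).symm
    exact (QuotientGroup.eq_one_iff (N := N) ⁅x, (⟨h, hh⟩ : H)⁆).mp h1
  · rw [show ⁅(x : P), h⁆ = x * (h * (x : P)⁻¹ * h⁻¹) by rw [commutatorElement_def]; group]
    exact mul_mem hx (hCn.conj_mem _ (inv_mem (show x ∈ C.subgroupOf H from hx)) ⟨h, hh⟩)

section extension

variable {B : Subgroup P} {x : P} (hx : x ∈ centralizer (B : Set P))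

theorem mem_sup_zpowers {y : P} (hx : x ∈ centralizer (B : Set P)) (hy : y ∈ B ⊔ zpowers x) :
    ∃ b ∈ B, ∃ i : ℤ, y = b * x ^ i := by
  have hle : zpowers x ≤ normalizer (B : Set P) := by
    rw [zpowers_le]
    refine mem_normalizer_iff.mpr fun z => ⟨fun hz => ?_, fun hz => ?_⟩
    · rwa [← mem_centralizer_iff.mp hx z hz, mul_inv_cancel_right]
    · have := mem_centralizer_iff.mp hx _ hz
      rw [show x * z * x⁻¹ * x = x * z by group] at this
      rw [mul_left_cancel this]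
      exact hz
  rw [← SetLike.mem_coe, coe_mul_of_right_le_normalizer_left B (zpowers x) hle] at hy
  obtain ⟨b, hb, _, ⟨i, rfl⟩, rfl⟩ := hy
  exact ⟨b, hb, i, rfl⟩

include hx in
theorem commute_pow_of_mem {b : P} (hb : b ∈ B) (i : ℤ) : Commute (x ^ i) b :=
  Commute.zpow_left (mem_centralizer_iff.mp hx b hb).symm i

include hx in
theorem center_le_center_sup :
    B ⊓ centralizer (B : Set P) ≤
      (B ⊔ zpowers x) ⊓ centralizer ((B ⊔ zpowers x : Subgroup P) : Set P) := by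
  refine fun z hz => mem_inf.mpr ⟨mem_sup_left hz.1, mem_centralizer_iff.mpr fun y hy => ?_⟩
  obtain ⟨b, hb, i, rfl⟩ := mem_sup_zpowers hx hy
  exact (Commute.mul_left (mem_centralizer_iff.mp hz.2 b hb)
    (commute_pow_of_mem hx hz.1 i))

include hx in
theorem sup_zpowers_mem_classTwo (hB : B ∈ Cfsg.classTwoSubgroups P) :
    B ⊔ zpowers x ∈ Cfsg.classTwoSubgroups P := by
  refine (commutator_le.mpr fun y hy z hz => ?_ :
    ⁅B ⊔ zpowers x, B ⊔ zpowers x⁆ ≤ B ⊓ centralizer (B : Set P)).trans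
      ((center_le_center_sup hx).trans inf_le_right)
  obtain ⟨a, ha, i, rfl⟩ := mem_sup_zpowers hx hy
  obtain ⟨b, hb, j, rfl⟩ := mem_sup_zpowers hx hz
  have e : ⁅a * x ^ i, b * x ^ j⁆ = ⁅a, b⁆ := by
    have h1 := commute_pow_of_mem hx ha j
    have h2 := commute_pow_of_mem hx hb i
    have h3 : Commute (x ^ i) (x ^ j) := Commute.zpow_zpow (Commute.refl x) i j
    rw [commutatorElement_def, commutatorElement_def]
    calc a * x ^ i * (b * x ^ j) * (a * x ^ i)⁻¹ * (b * x ^ j)⁻¹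
        = a * (x ^ i * b) * (x ^ j * (x ^ i)⁻¹) * a⁻¹ * (x ^ j)⁻¹ * b⁻¹ := by group
      _ = a * (b * x ^ i) * ((x ^ i)⁻¹ * x ^ j) * a⁻¹ * (x ^ j)⁻¹ * b⁻¹ := by
        rw [h2.eq, (h3.inv_left).eq]
      _ = a * b * (x ^ j * a⁻¹) * (x ^ j)⁻¹ * b⁻¹ := by group
      _ = a * b * a⁻¹ * b⁻¹ := by rw [(h1.inv_right).eq]; group
  rw [e]
  exact mem_inf.mpr ⟨B.commutator_le_self (commutator_mem_commutator ha hb),
    hB (commutator_mem_commutator ha hb)⟩

include hx in
theorem commutator_sup_le {A : Subgroup P} (hBA : ⁅B, A⁆ ≤ B ⊓ centralizer (B : Set P))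
    (hxA : ∀ a ∈ A, ⁅x, a⁆ ∈ B ⊓ centralizer (B : Set P)) :
    ⁅B ⊔ zpowers x, A⁆ ≤ B ⊓ centralizer (B : Set P) := by
  rw [commutator_le]
  intro y hy a ha
  obtain ⟨b, hb, i, rfl⟩ := mem_sup_zpowers hx hy
  have h1 : ∀ j : ℤ, ⁅x ^ j, a⁆ ∈ B ⊓ centralizer (B : Set P) := by
    have hx' : ∀ w ∈ B ⊓ centralizer (B : Set P), Commute x w := fun w hw =>
      (mem_centralizer_iff.mp hx w hw.1).symm
    intro j
    have e : ∀ j : ℤ, ⁅x ^ j, a⁆ = ⁅x, a⁆ ^ j := by
      have hc : Commute x ⁅x, a⁆ := hx' _ (hxA a ha)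
      have hax : a * x * a⁻¹ = ⁅x, a⁆⁻¹ * x := by rw [commutatorElement_def]; group
      intro j
      calc ⁅x ^ j, a⁆ = x ^ j * (a * x * a⁻¹) ^ (-j) := by
            rw [commutatorElement_def, conj_zpow, zpow_neg]; group
        _ = x ^ j * (⁅x, a⁆⁻¹ ^ (-j) * x ^ (-j)) := by rw [hax, (hc.symm.inv_left).mul_zpow]
        _ = ⁅x, a⁆ ^ j := by
            rw [inv_zpow, zpow_neg ⁅x, a⁆, inv_inv, ← mul_assoc, (hc.zpow_zpow j j).eq]
            group
    rw [e]
    exact zpow_mem (hxA a ha) j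
  rw [show ⁅b * x ^ i, a⁆ = b * ⁅x ^ i, a⁆ * b⁻¹ * ⁅b, a⁆ by
    rw [commutatorElement_def, commutatorElement_def, commutatorElement_def]; group]
  have h2 := h1 i
  rw [mem_centralizer_iff.mp h2.2 b hb, mul_inv_cancel_right]
  exact mul_mem h2 (hBA (commutator_mem_commutator hb ha))

include hx in
theorem sup_zpowers_mem_upper {R : Subgroup P} (hB : B ∈ Cfsg.kUpperStarFamily R)
    (hxR : ∀ r ∈ R, ⁅x, r⁆ ∈ B ⊓ centralizer (B : Set P)) :
    B ⊔ zpowers x ∈ Cfsg.kUpperStarFamily R :=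
  ⟨sup_zpowers_mem_classTwo hx hB.1,
    (commutator_sup_le hx hB.2 hxR).trans (center_le_center_sup hx)⟩

include hx in
theorem sup_zpowers_mem_lower {R : Subgroup P} (hB : B ∈ Cfsg.kLowerStarFamily R)
    (hxR : ∀ r ∈ R, ⁅x, r⁆ ∈ B ⊓ centralizer (B : Set P)) :
    B ⊔ zpowers x ∈ Cfsg.kLowerStarFamily R := by
  refine ⟨sup_zpowers_mem_classTwo hx hB.1, ?_, fun A hA hAR hN h1 h2 => ?_⟩
  · intro r hr
    have key : ∀ r ∈ R, ∀ y ∈ B ⊔ zpowers x, r * y * r⁻¹ ∈ B ⊔ zpowers x := by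
      intro r hr y hy
      obtain ⟨b, hb, i, rfl⟩ := mem_sup_zpowers hx hy
      have hrx : r * x * r⁻¹ ∈ B ⊔ zpowers x := by
        rw [show r * x * r⁻¹ = ⁅x, r⁆⁻¹ * x by rw [commutatorElement_def]; group]
        exact mul_mem (mem_sup_left (inv_mem (hxR r hr).1)) (mem_sup_right (mem_zpowers x))
      rw [show r * (b * x ^ i) * r⁻¹ = r * b * r⁻¹ * (r * x * r⁻¹) ^ i by rw [conj_zpow]; group]
      exact mul_mem (mem_sup_left ((mem_normalizer_iff.mp (hB.2.1 hr) b).mp hb)) (zpow_mem hrx i)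
    refine mem_normalizer_iff.mpr fun y => ⟨fun hy => key r hr y hy, fun hy => ?_⟩
    have := key r⁻¹ (inv_mem hr) _ hy
    simpa [mul_assoc] using this
  · refine (commutator_sup_le hx (hB.2.2 A hA hAR (le_sup_left.trans hN) ?_ ?_)
      (fun a ha => hxR a (hAR ha))).trans (center_le_center_sup hx)
    · exact le_bot_iff.mp ((commutator_mono le_sup_left le_rfl).trans h1.le)
    · exact le_bot_iff.mp
        ((commutator_mono (commutator_mono (center_le_center_sup hx) le_rfl) le_rfl).trans h2.le)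

end extension

theorem centralizer_le_of_max_upper [Finite P] {p : ℕ} [Fact p.Prime] (hP : IsPGroup p P)
    {R B : Subgroup P} (hB : B ∈ Cfsg.kUpperStarFamily R)
    (hmax : ∀ C ∈ Cfsg.kUpperStarFamily R, B ≤ C → C = B) : centralizer (B : Set P) ≤ B := by
  by_contra hC
  obtain ⟨x, hx, hxB, hxR⟩ := exists_centralizer_extension hP hC
  have hRN : R ≤ normalizer (B : Set P) := by
    intro r hr
    have key : ∀ r ∈ R, ∀ b ∈ B, r * b * r⁻¹ ∈ B := fun r hr b hb => by
      rw [show r * b * r⁻¹ = ⁅b, r⁆⁻¹ * b by rw [commutatorElement_def]; group]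
      exact mul_mem (inv_mem (hB.2 (commutator_mem_commutator hb hr)).1) hb
    refine mem_normalizer_iff.mpr fun y => ⟨key r hr y, fun hy => ?_⟩
    simpa [mul_assoc] using key r⁻¹ (inv_mem hr) _ hy
  have := hmax _ (sup_zpowers_mem_upper hx hB fun r hr => hxR r (hRN hr)) le_sup_left
  exact hxB (this ▸ mem_sup_right (mem_zpowers x))

theorem centralizer_le_of_max_lower [Finite P] {p : ℕ} [Fact p.Prime] (hP : IsPGroup p P)
    {R B : Subgroup P} (hB : B ∈ Cfsg.kLowerStarFamily R)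
    (hmax : ∀ C ∈ Cfsg.kLowerStarFamily R, B ≤ C → C = B) : centralizer (B : Set P) ≤ B := by
  by_contra hC
  obtain ⟨x, hx, hxB, hxR⟩ := exists_centralizer_extension hP hC
  have := hmax _ (sup_zpowers_mem_lower hx hB fun r hr => hxR r (hB.2.1 hr)) le_sup_left
  exact hxB (this ▸ mem_sup_right (mem_zpowers x))

theorem centralizer_le_of_max_classTwo [Finite P] {p : ℕ} [Fact p.Prime] (hP : IsPGroup p P)
    {B : Subgroup P} (hB : B ∈ Cfsg.classTwoSubgroups P)
    (hmax : ∀ C ∈ Cfsg.classTwoSubgroups P, B ≤ C → C = B) : centralizer (B : Set P) ≤ B := by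
  by_contra hC
  obtain ⟨x, hx, hxB, -⟩ := exists_centralizer_extension hP hC
  have := hmax _ (sup_zpowers_mem_classTwo hx hB) le_sup_left
  exact hxB (this ▸ mem_sup_right (mem_zpowers x))

theorem centralizer_sSup_le [Finite P] {𝒦 : Set (Subgroup P)}
    (h : ∀ B ∈ 𝒦, (∀ C ∈ 𝒦, B ≤ C → C = B) → centralizer (B : Set P) ≤ B)
    (hne : 𝒦.Nonempty) : centralizer ((sSup 𝒦 : Subgroup P) : Set P) ≤ sSup 𝒦 := by
  obtain ⟨B, hB, hmax⟩ := Set.Finite.exists_maximal (Set.toFinite 𝒦) hne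
  exact ((centralizer_le (SetLike.coe_subset_coe.mpr (le_sSup hB))).trans
    (h B hB fun C hC hle => le_antisymm (hmax hC hle) hle)).trans (le_sSup hB)

theorem centralizer_kInf_le [Finite P] {p : ℕ} [Fact p.Prime] (hP : IsPGroup p P) :
    centralizer (Cfsg.kInfLower P : Set P) ≤ Cfsg.kInfLower P ∧
      centralizer (Cfsg.kInfUpper P : Set P) ≤ Cfsg.kInfUpper P := by
  obtain ⟨n, hn⟩ := Techniques.exists_forall_kSeq_eq (P := P)
  have hbot : IsMulCommutative (⊥ : Subgroup P) :=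
    ⟨⟨fun a b => Subtype.ext (by simp [mem_bot.mp a.2, mem_bot.mp b.2])⟩⟩
  refine ⟨?_, ?_⟩
  · rw [← (hn n le_rfl).1]
    exact centralizer_sSup_le (fun B hB hm => centralizer_le_of_max_lower hP hB hm)
      ⟨⊥, abelian_normal_mem_lower hbot _⟩
  · rw [← (hn (n + 1) (Nat.le_succ n)).2]
    exact centralizer_sSup_le (fun B hB hm => centralizer_le_of_max_upper hP hB hm)
      ⟨⊥, abelian_normal_mem_upper hbot _⟩

theorem center_le_kInf : center P ≤ Cfsg.kInfLower P ∧ center P ≤ Cfsg.kInfUpper P :=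
  abelian_normal_le_kInf ⟨⟨fun a b => Subtype.ext (mem_center_iff.mp b.2 a)⟩⟩

theorem kInf_ne_bot [Finite P] [Nontrivial P] {p : ℕ} [Fact p.Prime] (hP : IsPGroup p P) :
    Cfsg.kInfLower P ≠ ⊥ ∧ Cfsg.kInfUpper P ≠ ⊥ := by
  have hc : center P ≠ ⊥ := (nontrivial_iff_ne_bot _).mp hP.center_nontrivial
  exact ⟨fun h => hc (le_bot_iff.mp (center_le_kInf.1.trans h.le)),
    fun h => hc (le_bot_iff.mp (center_le_kInf.2.trans h.le))⟩

/-! ### behaviour under injective homomorphisms -/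

section map

variable {f : Q →* P} (hf : Function.Injective f)

include hf in
theorem map_classTwo {B : Subgroup Q} :
    B.map f ∈ Cfsg.classTwoSubgroups P ↔ B ∈ Cfsg.classTwoSubgroups Q := by
  rw [mem_classTwo_iff, mem_classTwo_iff, ← map_commutator, ← map_commutator,
    map_eq_bot_iff_of_injective _ hf]

theorem map_le_normalizer_map_iff (hf : Function.Injective f) {A B : Subgroup Q} :
    A.map f ≤ normalizer ((B.map f : Subgroup P) : Set P) ↔ A ≤ normalizer (B : Set Q) := by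
  constructor
  · intro h a ha
    refine mem_normalizer_iff.mpr fun y => ?_
    have h1 := mem_normalizer_iff.mp (h (mem_map_of_mem f ha)) (f y)
    rw [← map_inv, ← map_mul, ← map_mul] at h1
    rwa [mem_map_iff_mem hf, mem_map_iff_mem hf] at h1
  · exact fun h => (map_mono h).trans (le_normalizer_map f)

theorem map_center_part (hf : Function.Injective f) (B : Subgroup Q) :
    (B ⊓ centralizer (B : Set Q)).map f =
      B.map f ⊓ centralizer ((B.map f : Subgroup P) : Set P) := by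
  ext y
  simp only [mem_map, mem_inf, mem_centralizer_iff, SetLike.mem_coe]
  constructor
  · rintro ⟨x, ⟨hx, hxc⟩, rfl⟩
    refine ⟨⟨x, hx, rfl⟩, ?_⟩
    rintro _ ⟨z, hz, rfl⟩
    rw [← map_mul, ← map_mul, hxc z hz]
  · rintro ⟨⟨x, hx, rfl⟩, hc⟩
    exact ⟨x, ⟨hx, fun z hz => hf (by rw [map_mul, map_mul]; exact hc _ ⟨z, hz, rfl⟩)⟩, rfl⟩

include hf in
theorem map_upper {B R : Subgroup Q} :
    B.map f ∈ Cfsg.kUpperStarFamily (R.map f) ↔ B ∈ Cfsg.kUpperStarFamily R := by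
  refine and_congr (map_classTwo hf) ?_
  rw [← map_commutator, ← map_center_part hf, map_le_map_iff_of_injective hf]

include hf in
theorem map_lower {B R : Subgroup Q} :
    B.map f ∈ Cfsg.kLowerStarFamily (R.map f) ↔ B ∈ Cfsg.kLowerStarFamily R := by
  refine and_congr (map_classTwo hf) (and_congr (map_le_normalizer_map_iff hf) ?_)
  constructor
  · intro h A hA hAR hN h1 h2
    have := h (A.map f) ((map_classTwo hf).mpr hA) (map_mono hAR)
      ((map_le_normalizer_map_iff hf).mpr hN)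
      (by rw [← map_commutator, ← map_commutator, h1, Subgroup.map_bot])
      (by rw [← map_center_part hf, ← map_commutator, ← map_commutator, h2, Subgroup.map_bot])
    rwa [← map_commutator, ← map_center_part hf, map_le_map_iff_of_injective hf] at this
  · intro h A hA hAR hN h1 h2
    obtain ⟨A, rfl⟩ : ∃ A₀ : Subgroup Q, A₀.map f = A :=
      ⟨A.comap f, map_comap_eq_self (hAR.trans (map_le_range f R))⟩
    rw [← map_commutator, ← map_commutator, map_eq_bot_iff_of_injective _ hf] at h1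
    rw [← map_center_part hf, ← map_commutator, ← map_commutator,
      map_eq_bot_iff_of_injective _ hf] at h2
    rw [← map_commutator, ← map_center_part hf, map_le_map_iff_of_injective hf]
    exact h A ((map_classTwo hf).mp hA) ((map_le_map_iff_of_injective hf).mp hAR)
      ((map_le_normalizer_map_iff hf).mp hN) h1 h2

include hf in
theorem map_sSup_upper (R : Subgroup Q) :
    (sSup (Cfsg.kUpperStarFamily R)).map f =
      sSup {B ∈ Cfsg.kUpperStarFamily (R.map f) | B ≤ f.range} := by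
  refine le_antisymm ?_ (sSup_le fun B hB => ?_)
  · rw [sSup_eq_iSup', Subgroup.map_iSup]
    exact iSup_le fun B => le_sSup ⟨(map_upper hf).mpr B.2, map_le_range f _⟩
  · obtain ⟨B₀, rfl⟩ : ∃ B₀ : Subgroup Q, B₀.map f = B := ⟨B.comap f, map_comap_eq_self hB.2⟩
    exact map_mono (le_sSup ((map_upper hf).mp hB.1))

include hf in
theorem map_sSup_lower (R : Subgroup Q) :
    (sSup (Cfsg.kLowerStarFamily R)).map f =
      sSup {B ∈ Cfsg.kLowerStarFamily (R.map f) | B ≤ f.range} := by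
  refine le_antisymm ?_ (sSup_le fun B hB => ?_)
  · rw [sSup_eq_iSup', Subgroup.map_iSup]
    exact iSup_le fun B => le_sSup ⟨(map_lower hf).mpr B.2, map_le_range f _⟩
  · obtain ⟨B₀, rfl⟩ : ∃ B₀ : Subgroup Q, B₀.map f = B := ⟨B.comap f, map_comap_eq_self hB.2⟩
    exact map_mono (le_sSup ((map_lower hf).mp hB.1))

/-- The K-sequence of a subgroup containing all the terms interleaves with that of the group. -/
theorem map_kSeq (hf : Function.Injective f)
    (hQ : ∀ n, Cfsg.kSeqEven P n ≤ f.range ∧ Cfsg.kSeqOdd P (n + 1) ≤ f.range) (n : ℕ) :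
    (Cfsg.kSeqOdd P (n + 1) ≤ (Cfsg.kSeqOdd Q n).map f ∧
      (Cfsg.kSeqOdd Q n).map f ≤ Cfsg.kSeqOdd P n) ∧
    (Cfsg.kSeqEven P n ≤ (Cfsg.kSeqEven Q n).map f ∧
      (Cfsg.kSeqEven Q n).map f ≤ Cfsg.kSeqEven P (n + 1)) := by
  have step : ∀ n, Cfsg.kSeqOdd P (n + 1) ≤ (Cfsg.kSeqOdd Q n).map f →
      (Cfsg.kSeqOdd Q n).map f ≤ Cfsg.kSeqOdd P n →
      Cfsg.kSeqEven P n ≤ (Cfsg.kSeqEven Q n).map f ∧
        (Cfsg.kSeqEven Q n).map f ≤ Cfsg.kSeqEven P (n + 1) := by
    intro n h1 h2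
    rw [show Cfsg.kSeqEven Q n = sSup (Cfsg.kLowerStarFamily (Cfsg.kSeqOdd Q n)) from rfl,
      map_sSup_lower hf]
    exact ⟨sSup_le fun B hB => le_sSup ⟨Techniques.kLowerStarFamily_anti h2 hB,
      (le_sSup hB).trans (hQ n).1⟩,
      sSup_le fun B hB => le_sSup (Techniques.kLowerStarFamily_anti h1 hB.1)⟩
  induction n with
  | zero =>
    have h1 : Cfsg.kSeqOdd P 1 ≤ (Cfsg.kSeqOdd Q 0).map f :=
      ((hQ 0).2).trans (MonoidHom.range_eq_map f).le
    have h2 : (Cfsg.kSeqOdd Q 0).map f ≤ Cfsg.kSeqOdd P 0 := le_top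
    exact ⟨⟨h1, h2⟩, step 0 h1 h2⟩
  | succ n ih =>
    obtain ⟨-, h3, h4⟩ := ih
    have h12 : Cfsg.kSeqOdd P (n + 1 + 1) ≤ (Cfsg.kSeqOdd Q (n + 1)).map f ∧
        (Cfsg.kSeqOdd Q (n + 1)).map f ≤ Cfsg.kSeqOdd P (n + 1) := by
      rw [show Cfsg.kSeqOdd Q (n + 1) = sSup (Cfsg.kUpperStarFamily (Cfsg.kSeqEven Q n)) from rfl,
        map_sSup_upper hf]
      exact ⟨sSup_le fun B hB => le_sSup ⟨Techniques.kUpperStarFamily_anti h4 hB,
        (le_sSup hB).trans (hQ (n + 1)).2⟩,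
        sSup_le fun B hB => le_sSup (Techniques.kUpperStarFamily_anti h3 hB.1)⟩
    exact ⟨h12, step (n + 1) h12.1 h12.2⟩

theorem map_kInf [Finite P] [Finite Q] (hf : Function.Injective f)
    (hQ : ∀ n, Cfsg.kSeqEven P n ≤ f.range ∧ Cfsg.kSeqOdd P (n + 1) ≤ f.range) :
    (Cfsg.kInfLower Q).map f = Cfsg.kInfLower P ∧ (Cfsg.kInfUpper Q).map f = Cfsg.kInfUpper P := by
  obtain ⟨a, ha⟩ := Techniques.exists_forall_kSeq_eq (P := P)
  obtain ⟨b, hb⟩ := Techniques.exists_forall_kSeq_eq (P := Q)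
  set n := max a b
  obtain ⟨⟨h1, h2⟩, h3, h4⟩ := map_kSeq hf hQ n
  rw [(ha (n + 1) (by omega)).2, (hb n (le_max_right a b)).2] at h1
  rw [(ha n (le_max_left a b)).2, (hb n (le_max_right a b)).2] at h2
  rw [(ha n (le_max_left a b)).1, (hb n (le_max_right a b)).1] at h3
  rw [(ha (n + 1) (by omega)).1, (hb n (le_max_right a b)).1] at h4
  exact ⟨le_antisymm h4 h3, le_antisymm h2 h1⟩

end map

theorem map_kInf_equiv [Finite P] [Finite Q] (e : Q ≃* P) :
    (Cfsg.kInfLower Q).map e.toMonoidHom = Cfsg.kInfLower P ∧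
      (Cfsg.kInfUpper Q).map e.toMonoidHom = Cfsg.kInfUpper P :=
  map_kInf (f := e.toMonoidHom) e.injective fun n => by
    rw [(MonoidHom.range_eq_top (f := e.toMonoidHom)).mpr e.surjective]
    exact ⟨le_top, le_top⟩

theorem isCharPFunctor_kInfLower (p : ℕ) [Fact p.Prime] :
    Cfsg.IsCharPFunctor.{u} p Cfsg.kInfLower :=
  ⟨fun _ _ _ hQ _ => (kInf_ne_bot hQ).1, fun Q R _ _ _ _ φ =>
    have : Finite R := Finite.of_equiv Q φ.toEquiv
    (map_kInf_equiv φ).1⟩

theorem isCharPFunctor_kInfUpper (p : ℕ) [Fact p.Prime] :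
    Cfsg.IsCharPFunctor.{u} p Cfsg.kInfUpper :=
  ⟨fun _ _ _ hQ _ => (kInf_ne_bot hQ).2, fun Q R _ _ _ _ φ =>
    have : Finite R := Finite.of_equiv Q φ.toEquiv
    (map_kInf_equiv φ).2⟩

end Cfsg.Agent.KInf
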