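import Mathlib.RingTheory.Nilpotent.Lemmas
import Mathlib.Algebra.Ring.Subring.Basic
import Mathlib.Algebra.CharP.Lemmas
import Mathlib.RingTheory.Ideal.Quotient.Operations

/-!
# An element of order `p` with vanishing trace centralises commuting `p'`-elements it normalises
-/

namespace Cfsg.Agent.KInf

open Finset

set_option linter.deprecated false

variable {R : Type*} [Ring R] {p : ℕ}

theorem eq_one_of_isNilpotent_sub_one [hp : Fact p.Prime] {C : Type*} [CommRing C]
    (h0 : (p : C) = 0) {c : C} (hc : IsNilpotent (c - 1)) {m : ℕ} (hm : c ^ m = 1)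
    (hcop : m.Coprime p) : c = 1 := by
  obtain ⟨n, hn⟩ := hc
  have h1 : (c - 1) ^ p ^ n = 0 :=
    pow_eq_zero_of_le (Nat.lt_pow_self hp.out.one_lt).le hn
  obtain ⟨r, hr⟩ := exists_add_pow_prime_pow_eq hp.out (c - 1) 1 n
  rw [sub_add_cancel, h1, h0, one_pow, zero_add, zero_mul, zero_mul, zero_mul, add_zero] at hr
  have h2 := pow_gcd_eq_one.mpr ⟨hr, hm⟩
  rwa [Nat.Coprime.gcd_eq_one (Nat.Coprime.pow_left n (Nat.coprime_comm.mp hcop)), pow_one] at h2

/-- If `x ^ p = 1`, `∑ x ^ i = 0` and `x` normalises a commuting set `A` of `p'`-elements, then `x`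
centralises `A`. -/
theorem commute_of_sum_pow_eq_zero [hp : Fact p.Prime] (h0 : (p : R) = 0) {x : R} (hx : x ^ p = 1)
    (hsum : ∑ i ∈ range p, x ^ i = 0) {A : Set R} (hcomm : ∀ a ∈ A, ∀ b ∈ A, a * b = b * a)
    (hconj : ∀ a ∈ A, x * a * x ^ (p - 1) ∈ A) {k : R} (hk : k ∈ A) {m : ℕ} (hm : k ^ m = 1)
    (hm1 : 0 < m) (hcop : m.Coprime p) : Commute x k := by
  have hp1 : p - 1 + 1 = p := Nat.succ_pred_eq_of_pos hp.out.pos
  have hxl : x ^ (p - 1) * x = 1 := by rw [← pow_succ, hp1, hx]
  have hxr : x * x ^ (p - 1) = 1 := by rw [← pow_succ', hp1, hx]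
  let C := Subring.closure A
  let inst : CommRing C := Subring.closureCommRingOfComm hcomm
  have hmem : ∀ c ∈ C, x * c * x ^ (p - 1) ∈ C := by
    intro c hc
    induction hc using Subring.closure_induction with
    | mem a ha => exact Subring.subset_closure (hconj a ha)
    | zero => simp
    | one => rw [mul_one, hxr]; exact one_mem C
    | add a b _ _ ha hb => rw [mul_add, add_mul]; exact add_mem ha hb
    | neg a _ ha => rw [mul_neg, neg_mul]; exact neg_mem ha
    | mul a b _ _ ha hb =>
      rw [show x * (a * b) * x ^ (p - 1) = (x * a * x ^ (p - 1)) * (x * b * x ^ (p - 1)) by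
        calc x * (a * b) * x ^ (p - 1) = x * a * (x ^ (p - 1) * x) * b * x ^ (p - 1) := by
              rw [hxl, mul_one]; simp [mul_assoc]
          _ = _ := by simp [mul_assoc]]
      exact mul_mem ha hb
  let σ : C →+* C :=
    { toFun := fun c => ⟨x * c * x ^ (p - 1), hmem c c.2⟩
      map_one' := Subtype.ext (by simp [hxr])
      map_zero' := Subtype.ext (by simp)
      map_add' := fun a b => Subtype.ext (by simp [mul_add, add_mul])
      map_mul' := fun a b => Subtype.ext (by
        change x * ((a : R) * b) * x ^ (p - 1) =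
          (x * a * x ^ (p - 1)) * (x * b * x ^ (p - 1))
        calc x * ((a : R) * b) * x ^ (p - 1) = x * a * (x ^ (p - 1) * x) * b * x ^ (p - 1) := by
              rw [hxl, mul_one]; simp [mul_assoc]
          _ = _ := by simp [mul_assoc]) }
  have hσpow : ∀ (j : ℕ) (c : C), ((σ^[j] c : C) : R) * x ^ j = x ^ j * c := by
    intro j
    induction j with
    | zero => intro c; simp
    | succ j ih =>
      intro c
      rw [Function.iterate_succ_apply, pow_succ, ← mul_assoc, ih]
      change x ^ j * (x * c * x ^ (p - 1)) * x = x ^ j * x * c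
      calc x ^ j * (x * c * x ^ (p - 1)) * x = x ^ j * x * c * (x ^ (p - 1) * x) := by
            simp [mul_assoc]
        _ = _ := by rw [hxl, mul_one]
  have hσp : ∀ c : C, σ^[p] c = c := fun c => Subtype.ext (by simpa [hx] using hσpow p c)
  -- elimination
  have helim : ∀ (a : ℕ → C) (n : ℕ), ∑ j ∈ range p,
      ((∏ i ∈ range n, (σ^[j] (a i) - σ^[i] (a i)) : C) : R) * x ^ j = 0 := by
    intro a n
    induction n with
    | zero => simpa using hsum
    | succ n ih =>
      set f : ℕ → C := fun j => ∏ i ∈ range n, (σ^[j] (a i) - σ^[i] (a i)) with hf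
      have h1 : ∑ j ∈ range p, ((f j * σ^[j] (a n) : C) : R) * x ^ j = 0 := by
        have := congrArg (· * ((a n : C) : R)) ih
        simp only [zero_mul, sum_mul] at this
        rw [← this]
        refine sum_congr rfl fun j _ => ?_
        change (f j : R) * (σ^[j] (a n) : R) * x ^ j = (f j : R) * x ^ j * (a n : R)
        rw [mul_assoc, hσpow, mul_assoc]
      have h2 : ∑ j ∈ range p, ((f j * σ^[n] (a n) : C) : R) * x ^ j = 0 := by
        have := congrArg ((σ^[n] (a n) : R) * ·) ih
        simp only [mul_zero, mul_sum] at this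
        rw [← this]
        refine sum_congr rfl fun j _ => ?_
        rw [mul_comm (f j)]
        exact mul_assoc _ _ _
      calc _ = ∑ j ∈ range p, (((f j * σ^[j] (a n) : C) : R) * x ^ j -
            ((f j * σ^[n] (a n) : C) : R) * x ^ j) := by
            refine sum_congr rfl fun j _ => ?_
            rw [← sub_mul, prod_range_succ]
            congr 1
            rw [show f j * σ^[j] (a n) = f j * σ^[j] (a n) from rfl]
            exact congrArg (fun c : C => (c : R)) (mul_sub (f j) _ _)
        _ = 0 := by rw [sum_sub_distrib, h1, h2, sub_zero]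
  have hlast : ∀ a : ℕ → C, ∏ i ∈ range (p - 1), (σ^[p - 1] (a i) - σ^[i] (a i)) = 0 := by
    intro a
    have h := helim a (p - 1)
    rw [← hp1, sum_range_succ, hp1, sum_eq_zero fun j hj => ?_, zero_add] at h
    · have h2 := congrArg (· * x) h
      simp only [zero_mul, mul_assoc, hxl, mul_one] at h2
      exact Subtype.ext h2
    · rw [prod_eq_zero hj (sub_self _)]
      simp
  -- reduction modulo a prime
  have hnil : ∀ c : C, IsNilpotent (σ c - c) := by
    intro c
    refine nilpotent_iff_mem_prime.mpr fun J hJ => ?_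
    set φ := Ideal.Quotient.mk J
    obtain ⟨i, hi, hφ⟩ : ∃ i < p - 1, ∀ b : C, φ (σ^[p - 1] b) = φ (σ^[i] b) := by
      by_contra hcon
      push Not at hcon
      choose! a ha using hcon
      have h := hlast a
      have h2 : ∏ i ∈ range (p - 1), (σ^[p - 1] (a i) - σ^[i] (a i)) ∈ J := h ▸ J.zero_mem
      obtain ⟨i, hi, hiJ⟩ := Ideal.IsPrime.prod_mem_iff.mp h2
      exact ha i (mem_range.mp hi) (Ideal.Quotient.eq.mpr hiJ)
    have hd : ∀ (n : ℕ) (b : C), φ (σ^[(i + 1) * n] b) = φ b := by
      intro n
      induction n with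
      | zero => intro b; rfl
      | succ n ih =>
        intro b
        have h3 := hφ (σ (σ^[(i + 1) * n] b))
        rw [← Function.iterate_succ_apply, ← Function.iterate_succ_apply, Nat.succ_eq_add_one,
          hp1, hσp, ← Function.iterate_add_apply] at h3
        rw [show (i + 1) * (n + 1) = i.succ + (i + 1) * n by rw [Nat.succ_eq_add_one]; ring, ← h3, ih]
    have hcop' : (i + 1).Coprime p :=
      Nat.coprime_comm.mp (hp.out.coprime_iff_not_dvd.mpr fun hd' =>
        absurd (Nat.le_of_dvd (Nat.succ_pos i) hd') (by omega))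
    obtain ⟨n, -, hn⟩ := Nat.exists_mul_mod_eq_one_of_coprime hcop' hp.out.one_lt
    have h4 : φ (σ c) = φ c := by
      have h5 := hd n c
      rw [← Nat.mod_add_div ((i + 1) * n) p, hn, Function.iterate_add_apply,
        Function.iterate_mul] at h5
      rw [Function.iterate_one] at h5
      rwa [Function.iterate_fixed (hσp c)] at h5
    exact Ideal.Quotient.eq.mp h4
  -- apply to `k`
  let kc : C := ⟨k, Subring.subset_closure hk⟩
  have hkc : kc ^ m = 1 := Subtype.ext (by simpa [kc] using hm)
  have h0' : (p : C) = 0 := Subtype.ext (by simpa using h0)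
  have hc1 : σ kc * kc ^ (m - 1) = 1 := by
    refine eq_one_of_isNilpotent_sub_one (p := p) h0' ?_ (m := m) ?_ hcop
    · have h6 : σ kc * kc ^ (m - 1) - 1 = kc ^ (m - 1) * (σ kc - kc) := by
        rw [mul_sub, ← pow_succ, Nat.succ_pred_eq_of_pos hm1 |> fun e => show m - 1 + 1 = m from e,
          hkc, mul_comm]
      rw [h6]
      exact Commute.isNilpotent_mul_left (Commute.all _ _) (hnil kc)
    · rw [mul_pow, ← map_pow, hkc, map_one, ← pow_mul, mul_comm (m - 1), pow_mul, hkc, one_pow,
        one_mul]
  have h7 : σ kc = kc := by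
    have := congrArg (· * kc) hc1
    simp only [one_mul, mul_assoc, ← pow_succ] at this
    rwa [show m - 1 + 1 = m by omega, hkc, mul_one] at this
  have h8 := congrArg (fun c : C => (c : R)) h7
  change x * k * x ^ (p - 1) = k at h8
  have h9 := congrArg (· * x) h8
  simp only [mul_assoc, hxl, mul_one] at h9
  exact h9

end Cfsg.Agent.KInf
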