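import Cfsg.Prelude.Def_ConjugacyFunctors
import Cfsg.Agent.KInf.Basic
import Cfsg.Agent.KInf.Stabilizer
import Cfsg.Agent.KInf.Series

/-!
# An element acting cubically on a critical subgroup when a K-infinity subgroup is not normal
-/

namespace Cfsg.Agent.KInf

open Subgroup
open scoped commutatorElement

set_option linter.unusedSectionVars false

universe u

/-- The elements of `A` whose commutators with `A` centralise `B`. -/
def rad {G : Type u} [Group G] (A B : Subgroup G) : Subgroup G :=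
  closure {x | x ∈ A ∧ ∀ y ∈ A, ⁅x, y⁆ ∈ centralizer (B : Set G)}

theorem rad_le {G : Type u} [Group G] (A B : Subgroup G) : rad A B ≤ A :=
  (closure_le _).mpr fun _ hx => hx.1

theorem mem_rad {G : Type u} [Group G] {A B : Subgroup G}
    (hAA : ⁅A, A⁆ ≤ centralizer (A : Set G)) {x : G} :
    x ∈ rad A B ↔ x ∈ A ∧ ∀ y ∈ A, ⁅x, y⁆ ∈ centralizer (B : Set G) := by
  refine ⟨fun hx => ⟨rad_le A B hx, ?_⟩, fun h => subset_closure h⟩
  induction hx using closure_induction with
  | mem z hz => exact hz.2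
  | one => intro y _; rw [commutatorElement_one_left]; exact one_mem _
  | mul a b ha hb iha ihb =>
    intro y hy
    have haA := rad_le A B ha
    have hbA := rad_le A B hb
    have hc := mem_centralizer_iff.mp (hAA (commutator_mem_commutator hbA hy)) a haA
    rw [show ⁅a * b, y⁆ = a * ⁅b, y⁆ * a⁻¹ * ⁅a, y⁆ by simp only [commutatorElement_def]; group,
      hc, mul_inv_cancel_right]
    exact mul_mem (ihb y hy) (iha y hy)
  | inv a ha iha =>
    intro y hy
    have haA := rad_le A B ha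
    have hc := mem_centralizer_iff.mp (hAA (commutator_mem_commutator haA hy)) a haA
    rw [show ⁅a⁻¹, y⁆ = a⁻¹ * ⁅a, y⁆⁻¹ * a by simp only [commutatorElement_def]; group]
    have h2 : a⁻¹ * ⁅a, y⁆⁻¹ * a = ⁅a, y⁆⁻¹ := by
      have h3 : Commute a ⁅a, y⁆ := hc
      rw [h3.inv_inv.eq, inv_mul_cancel_right]
    rw [h2]
    exact inv_mem (iha y hy)

section quadratic

variable {G : Type u} [Group G] [Finite G] {p : ℕ} [hp : Fact p.Prime]

/-- If `B` has class two, acts trivially on the chief factors inside `Z` and `[B, rad A B]` is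
centralised by `B`, then the elements of `B` act quadratically on the chief factors between `Z` and
`A`. -/
theorem quadratic_above {A Z B : Subgroup G} [A.Normal] [Z.Normal] (hZp : IsPGroup p Z)
    (hAA : ⁅A, A⁆ ≤ Z) (hZC : Z ≤ centralizer (A : Set G))
    (hAB : ⁅A, B⁆ ≤ B) (hB2 : ⁅B, B⁆ ≤ centralizer (B : Set G)) (hR : ⁅B, rad A B⁆ ≤ centralizer (B : Set G))
    (htriv : ∀ b ∈ B, ∀ U V, Cfsg.IsChiefFactor U V → U ≤ Z → TrivOn b U V)
    {b : G} (hb : b ∈ B) {U V : Subgroup G} (hch : Cfsg.IsChiefFactor U V) (hZV : Z ≤ V)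
    (hUA : U ≤ A) : Cfsg.iterCommutator U (zpowers b) 2 ≤ V := by
  obtain ⟨-, hUn, hVn, -⟩ := id hch
  have hAA' : ⁅A, A⁆ ≤ centralizer (A : Set G) := hAA.trans hZC
  have hR' : ∀ {x}, x ∈ rad A B ↔ x ∈ A ∧ ∀ y ∈ A, ⁅x, y⁆ ∈ centralizer (B : Set G) :=
    mem_rad hAA'
  have hdgB : ∀ d ∈ B, ∀ y ∈ A, dg d y ∈ B := fun d hd y hy => by
    rw [dg_eq]; exact hAB (commutator_mem_commutator (inv_mem hy) hd)
  -- second differences of `A` lie in `rad A B`
  have hx2 : ∀ x ∈ A, dg b (dg b x) ∈ rad A B := by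
    intro x hx
    have h1A : dg b x ∈ A := dg_mem b hx
    have h1B : dg b x ∈ B := hdgB b hb x hx
    have h2A : dg b (dg b x) ∈ A := dg_mem b h1A
    have h2C : dg b (dg b x) ∈ centralizer (B : Set G) := by
      rw [dg_eq b (dg b x)]; exact hB2 (commutator_mem_commutator (inv_mem h1B) hb)
    set x₂ := dg b (dg b x)
    refine hR'.mpr ⟨h2A, fun y hy => mem_centralizer_iff.mpr fun d hd => ?_⟩
    have hσx : d * x₂ * d⁻¹ = x₂ := by
      rw [mem_centralizer_iff.mp h2C d hd, mul_inv_cancel_right]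
    have hc : ⁅x₂, dg d y⁆ = 1 := commutatorElement_eq_one_iff_mul_comm.mpr
      (mem_centralizer_iff.mp h2C _ (hdgB d hd y hy)).symm
    rw [← mul_inv_eq_iff_eq_mul]
    calc d * ⁅x₂, y⁆ * d⁻¹ = ⁅d * x₂ * d⁻¹, y * dg d y⁆ := by
          rw [mul_dg]; simp only [commutatorElement_def]; group
      _ = ⁅x₂, y⁆ * (y * ⁅x₂, dg d y⁆ * y⁻¹) := by
          rw [hσx]; simp only [commutatorElement_def]; group
      _ = ⁅x₂, y⁆ := by rw [hc]; group
  have hR2 : ∀ x ∈ rad A B, dg b (dg b x) = 1 := by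
    intro x hx
    have h1 : dg b x ∈ centralizer (B : Set G) := by
      rw [dg_eq, ← commutatorElement_inv]
      exact inv_mem (hR (commutator_mem_commutator hb (inv_mem hx)))
    rw [dg, mem_centralizer_iff.mp h1 b hb, mul_inv_cancel_right, inv_mul_cancel]
  -- the group `C(Z) ⊔ B`
  set C := centralizer (Z : Set G) with hC
  let N : Subgroup G := kerOn fun U _ => U ≤ Z
  have hCN : C ≤ N := fun c hc U V _ hU u hu => by
    rw [commutatorElement_eq_one_iff_mul_comm.mpr (mem_centralizer_iff.mp hc u (hU hu)).symm]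
    exact one_mem _
  have hBN : B ≤ N := fun d hd U V hUV hU => htriv d hd U V hUV hU
  have hNp : IsPGroup p (N.map (QuotientGroup.mk' C)) := by
    rintro ⟨_, x, hx, rfl⟩
    obtain ⟨a, ha⟩ := exists_pow_coprime (p := p) x
    refine ⟨a, Subtype.ext ?_⟩
    change (QuotientGroup.mk' C x) ^ p ^ a = 1
    rw [← map_pow]
    refine (QuotientGroup.eq_one_iff _).mpr (mem_centralizer_iff.mpr fun z hz => ?_)
    have := centralizes_of_trivOn (Z₀ := (⊥ : Subgroup G)) hZp bot_le ha
      (fun w hw => by rw [mem_bot.mp hw, mul_one, mul_inv_cancel])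
      (fun U' V' hUV _ hU' => pow_mem hx (p ^ a) U' V' hUV hU') z hz
    exact (mul_inv_eq_iff_eq_mul.mp this).symm
  set K := C ⊔ B with hK
  have hKR : K ≤ normalizer (rad A B : Set G) := by
    have key : ∀ k : G, (∀ w : G, w ∈ centralizer (B : Set G) → w ∈ Z →
        k * w * k⁻¹ ∈ centralizer (B : Set G)) → k ∈ normalizer (rad A B : Set G) := by
      intro k hk
      refine Control.mem_normalizer_of_cjSub_eq (eq_of_le_of_card_ge ?_ (Control.card_cjSub k _).ge)
      rintro _ ⟨x, hx, rfl⟩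
      obtain ⟨hxA, hxc⟩ := hR'.mp hx
      refine hR'.mpr ⟨(‹A.Normal›).conj_mem x hxA k, fun y hy => ?_⟩
      have hy' : k⁻¹ * y * k ∈ A := by simpa using (‹A.Normal›).conj_mem y hy k⁻¹
      have := hk _ (hxc _ hy') (hAA (commutator_mem_commutator hxA hy'))
      change ⁅k * x * k⁻¹, y⁆ ∈ _
      convert this using 1
      simp only [commutatorElement_def]; group
    refine sup_le (fun c hc => key c fun w hw hwZ => ?_) fun d hd => key d fun w hw _ => ?_
    · rw [← mem_centralizer_iff.mp hc w hwZ, mul_inv_cancel_right]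
      exact hw
    · rw [mem_centralizer_iff.mp hw d hd, mul_inv_cancel_right]
      exact hw
  have hbK : b ∈ K := mem_sup_right hb
  -- each minimal piece
  set f := QuotientGroup.mk' V with hf
  have hsq : ∀ x, f ((dg b)^[2] x) = dg (f b) (dg (f b) (f x)) := fun x => map_dg_iterate f b 2 x
  have hpiece : ∀ X, MinInv K U V X → ∀ x ∈ X, (dg b)^[2] x ∈ V := by
    intro X hX x hx
    obtain ⟨hVX, hXU, hKX, hmin⟩ := hX
    set X' := (rad A B ⊓ X) ⊔ V with hX'
    have hinv : K ≤ normalizer (X' : Set G) := by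
      intro k hk
      refine Control.mem_normalizer_of_cjSub_eq ?_
      rw [hX', Control.cjSub, Subgroup.map_sup, map_inf_eq _ _ _ (MulAut.conj k).injective]
      change Control.cjSub k _ ⊓ Control.cjSub k X ⊔ Control.cjSub k V = _
      rw [Control.cjSub_eq_of_mem (hKR hk), Control.cjSub_eq_of_mem (hKX hk),
        Control.cjSub_eq_of_mem (show k ∈ normalizer (V : Set G) by
          rw [normalizer_eq_top_iff.mpr hVn]; exact mem_top k)]
    have hdgX : ∀ z ∈ X, dg b z ∈ X := fun z hz =>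
      mul_mem (inv_mem hz) ((mem_normalizer_iff.mp (hKX hbK) z).mp hz)
    rcases hmin X' le_sup_right (sup_le inf_le_right hVX.le) hinv with h | h
    · exact (le_sup_left.trans h.le)
        (mem_inf.mpr ⟨hx2 x (hUA (hXU hx)), hdgX _ (hdgX _ hx)⟩ :
          (dg b)^[2] x ∈ rad A B ⊓ X)
    · obtain ⟨r, hr, v, hv, rfl⟩ := mem_sup_of_normal_right.mp (h.ge hx)
      refine (QuotientGroup.eq_one_iff _).mp ?_
      change f ((dg b)^[2] (r * v)) = 1
      rw [hsq, map_mul, show f v = 1 from (QuotientGroup.eq_one_iff v).mpr hv, mul_one, ← hsq]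
      change f (dg b (dg b r)) = 1
      rw [hR2 r hr.1, map_one]
  -- `dg b` is multiplicative modulo `V`
  have hUU : ⁅U, U⁆ ≤ V := (commutator_mono hUA hUA).trans (hAA.trans hZV)
  refine iter_le_of_dg hUU b 2 fun x hx => ?_
  have hUc : ∀ u ∈ U.map f, ∀ w ∈ U.map f, u * w = w * u := by
    rintro _ ⟨u, hu, rfl⟩ _ ⟨w, hw, rfl⟩
    rw [← commutatorElement_eq_one_iff_mul_comm, ← map_commutatorElement]
    exact (QuotientGroup.eq_one_iff _).mpr (hUU (commutator_mem_commutator hu hw))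
  have hUm : (U.map f).Normal := hUn.map f (QuotientGroup.mk'_surjective V)
  have hmul : ∀ u ∈ U.map f, ∀ w ∈ U.map f, dg (f b) (u * w) = dg (f b) u * dg (f b) w := by
    intro u hu w hw
    have hσ : ∀ z ∈ U.map f, f b * z * (f b)⁻¹ ∈ U.map f := fun z hz => hUm.conj_mem z hz _
    calc dg (f b) (u * w) = w⁻¹ * (dg (f b) u) * w * dg (f b) w := by simp only [dg]; group
      _ = dg (f b) u * dg (f b) w := by
        rw [hUc _ (inv_mem hw) _ (dg_mem (f b) hu), inv_mul_cancel_right]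
  have hone : dg (f b) (1 : G ⧸ V) = 1 := by simp [dg]
  let T : Subgroup G :=
    { carrier := {u | u ∈ U ∧ dg (f b) (dg (f b) (f u)) = 1}
      one_mem' := ⟨one_mem U, by rw [map_one, hone, hone]⟩
      mul_mem' := fun {u w} hu hw => ⟨mul_mem hu.1 hw.1, by
        rw [map_mul, hmul _ ⟨u, hu.1, rfl⟩ _ ⟨w, hw.1, rfl⟩,
          hmul _ (dg_mem _ ⟨u, hu.1, rfl⟩) _ (dg_mem _ ⟨w, hw.1, rfl⟩), hu.2, hw.2, one_mul]⟩
      inv_mem' := fun {u} hu => ⟨inv_mem hu.1, by
        have h := hmul _ (dg_mem (f b) (⟨u, hu.1, rfl⟩ : f u ∈ U.map f)) _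
          (dg_mem (f b) (⟨u⁻¹, inv_mem hu.1, rfl⟩ : f u⁻¹ ∈ U.map f))
        rw [← hmul _ ⟨u, hu.1, rfl⟩ _ ⟨u⁻¹, inv_mem hu.1, rfl⟩, ← map_mul, mul_inv_cancel, map_one,
          hone, hone, hu.2, one_mul] at h
        exact h.symm⟩ }
  have hUT : U ≤ T := (chief_eq_iSup_minInv (C := C) hch hNp le_sup_left (sup_le hCN hBN)).trans
    (iSup₂_le fun X hX z hz => ⟨hX.2.1 hz, by
      rw [← hsq]; exact (QuotientGroup.eq_one_iff _).mpr (hpiece X hX z hz)⟩)
  refine (QuotientGroup.eq_one_iff _).mp ?_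
  change f ((dg b)^[2] x) = 1
  rw [hsq]
  exact (hUT hx).2

end quadratic

/-! ### the key lemma -/

variable {G : Type u} [Group G] [Finite G] {p : ℕ} [hp : Fact p.Prime]

theorem kInf_normal_of_le {S : Sylow p G}
    (hle : ∀ n, (Cfsg.kSeqEven (S : Subgroup G) n).map (S : Subgroup G).subtype ≤ Cfsg.pCore p G ∧
      (Cfsg.kSeqOdd (S : Subgroup G) (n + 1)).map (S : Subgroup G).subtype ≤ Cfsg.pCore p G) :
    (Cfsg.inducedFunctor Cfsg.kInfLower (S : Subgroup G)).Normal ∧
      (Cfsg.inducedFunctor Cfsg.kInfUpper (S : Subgroup G)).Normal := by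
  set T := Cfsg.pCore p G
  have hTS : T ≤ (S : Subgroup G) := Core.pCore_le_sylow S
  have hrange : ∀ n, Cfsg.kSeqEven (S : Subgroup G) n ≤ (inclusion hTS).range ∧
      Cfsg.kSeqOdd (S : Subgroup G) (n + 1) ≤ (inclusion hTS).range := fun n => by
    refine ⟨fun x hx => ?_, fun x hx => ?_⟩
    · exact ⟨⟨x, (hle n).1 ⟨x, hx, rfl⟩⟩, rfl⟩
    · exact ⟨⟨x, (hle n).2 ⟨x, hx, rfl⟩⟩, rfl⟩
  obtain ⟨h1, h2⟩ := map_kInf (inclusion_injective hTS) hrange
  have hchar : ∀ W : Subgroup T, (∀ φ : T ≃* T, W.map φ.toMonoidHom = W) →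
      (W.map T.subtype).Normal := fun W hW => by
    have : W.Characteristic := characteristic_iff_map_eq.mpr hW
    exact ConjAct.normal_of_characteristic_of_normal
  simp only [Cfsg.inducedFunctor]
  refine ⟨?_, ?_⟩
  · rw [← h1, map_map, show (S : Subgroup G).subtype.comp (inclusion hTS) = T.subtype from rfl]
    exact hchar _ fun φ => (map_kInf_equiv φ).1
  · rw [← h2, map_map, show (S : Subgroup G).subtype.comp (inclusion hTS) = T.subtype from rfl]
    exact hchar _ fun φ => (map_kInf_equiv φ).2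

section key

variable (S : Sylow p G) (A Z : Subgroup G) [A.Normal] [Z.Normal] (hAT : A ≤ Cfsg.pCore p G)
  (hZdef : Z = A ⊓ centralizer (A : Set G)) (hTA : ⁅Cfsg.pCore p G, A⁆ ≤ Z)

include hAT hZdef hTA in
theorem exists_cubic
    (hK : ¬ (Cfsg.inducedFunctor Cfsg.kInfLower (S : Subgroup G)).Normal ∨
      ¬ (Cfsg.inducedFunctor Cfsg.kInfUpper (S : Subgroup G)).Normal) :
    ∃ g ∈ (S : Subgroup G), g ∉ Cfsg.pCore p G ∧ Cfsg.iterCommutator A (zpowers g) 3 ≤ Z ∧
      ⁅⁅Z, zpowers g⁆, zpowers g⁆ = ⊥ ∧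
      ((∃ U V, Cfsg.IsChiefFactor U V ∧ U ≤ Z ∧ ¬ TrivOn g U V) ∨
        ∀ U V, Cfsg.IsChiefFactor U V → Z ≤ V → U ≤ A → Cfsg.iterCommutator U (zpowers g) 2 ≤ V) := by
  set T := Cfsg.pCore p G with hTdef
  set P := (S : Subgroup G) with hPdef
  have hTP : T ≤ P := Core.pCore_le_sylow S
  have hAP : A ≤ P := hAT.trans hTP
  have hZA : Z ≤ A := hZdef.le.trans inf_le_left
  have hZC : Z ≤ centralizer (A : Set G) := hZdef.le.trans inf_le_right
  have hAA : ⁅A, A⁆ ≤ Z := (commutator_mono hAT le_rfl).trans hTA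
  have hZZ : ⁅Z, A⁆ = ⊥ := commutator_eq_bot_iff_le_centralizer.mpr hZC
  -- finish from quadratic action on `A`
  have hquad : ∀ g : G, Cfsg.iterCommutator A (zpowers g) 2 ≤ Z →
      Cfsg.iterCommutator A (zpowers g) 3 ≤ Z ∧ ∀ U V : Subgroup G, Cfsg.IsChiefFactor U V →
        Z ≤ V → U ≤ A → Cfsg.iterCommutator U (zpowers g) 2 ≤ V := fun g h =>
    ⟨(iter_anti A _ (by norm_num : 2 ≤ 3)).trans h,
      fun U V _ hZV hUA => (iter_mono hUA _ 2).trans (h.trans hZV)⟩
  set A' := A.subgroupOf P with hA'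
  set Z' := Z.subgroupOf P with hZ'
  have hA'n : A'.Normal := inferInstance
  have hZ'n : Z'.Normal := inferInstance
  have hA'map : A'.map P.subtype = A := map_subgroupOf_eq_of_le hAP
  have hZ'map : Z'.map P.subtype = Z := map_subgroupOf_eq_of_le (hZA.trans hAP)
  have hsub : Function.Injective P.subtype := P.subtype_injective
  have hZ'eq : Z' = A' ⊓ centralizer (A' : Set P) := map_injective hsub (by
    rw [map_center_part hsub, hA'map, hZ'map]; exact hZdef)
  have hZ'comm : IsMulCommutative Z' := by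
    rw [← le_centralizer_iff_isMulCommutative, hZ'eq]
    exact inf_le_right.trans (centralizer_le (SetLike.coe_subset_coe.mpr inf_le_left))
  have hA'2 : A' ∈ Cfsg.classTwoSubgroups P := by
    rw [← map_classTwo hsub, hA'map]
    exact hAA.trans hZC
  by_cases hAlow : A' ∈ Cfsg.kLowerStarFamily (⊤ : Subgroup P)
  swap
  · -- (i) a test subgroup for `A` leaves `T`
    obtain ⟨A₀, hA₀2, hA₀N, hA₀1, hA₀Z, hA₀n⟩ : ∃ A₀ ∈ Cfsg.classTwoSubgroups P,
        A' ≤ normalizer (A₀ : Set P) ∧ ⁅A', ⁅A₀, A₀⁆⁆ = ⊥ ∧ ⁅⁅Z', A₀⁆, A₀⁆ = ⊥ ∧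
          ¬ ⁅A', A₀⁆ ≤ Z' := by
      by_contra hcon
      push Not at hcon
      refine hAlow ⟨hA'2, ?_, fun A₀ h1 _ h3 h4 h5 => ?_⟩
      · rw [normalizer_eq_top_iff.mpr hA'n]
      · rw [← hZ'eq] at h5 ⊢
        exact hcon A₀ h1 h3 h4 h5
    set B := A₀.map P.subtype with hBdef
    obtain ⟨g, hgB, hgT⟩ : ∃ g ∈ B, g ∉ T := by
      by_contra hcon
      push Not at hcon
      refine hA₀n ((map_le_map_iff_of_injective hsub).mp ?_)
      rw [map_commutator, hA'map, hZ'map, Subgroup.commutator_comm]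
      exact (commutator_mono hcon le_rfl).trans hTA
    have hAN : A ≤ normalizer (B : Set G) := by
      rw [← hA'map]; exact (map_le_normalizer_map_iff hsub).mpr hA₀N
    have hgle : zpowers g ≤ B := zpowers_le.mpr hgB
    have hAB : ⁅A, B⁆ ≤ A ⊓ B := le_inf (commutator_le_left A B)
      (commutator_le.mpr fun a ha b hb => by
        rw [commutatorElement_def]
        exact mul_mem ((mem_normalizer_iff.mp (hAN ha) b).mp hb) (inv_mem hb))
    have hq : Cfsg.iterCommutator A (zpowers g) 2 ≤ Z := by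
      change ⁅⁅A, zpowers g⁆, zpowers g⁆ ≤ Z
      refine (commutator_mono (commutator_mono le_rfl hgle) hgle).trans (hZdef ▸ le_inf ?_ ?_)
      · exact (commutator_mono (commutator_le_left A B) le_rfl).trans (commutator_le_left A B)
      · refine le_trans (commutator_mono (hAB.trans inf_le_right) le_rfl) ?_
        rw [← commutator_eq_bot_iff_le_centralizer, Subgroup.commutator_comm, ← hA'map,
          ← map_commutator, ← map_commutator, hA₀1, Subgroup.map_bot]
    refine ⟨g, (map_subtype_le A₀) hgB, hgT, (hquad g hq).1, le_bot_iff.mp ?_, Or.inr (hquad g hq).2⟩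
    refine (commutator_mono (commutator_mono le_rfl hgle) hgle).trans ?_
    rw [← hZ'map, ← map_commutator, ← map_commutator, hA₀Z, Subgroup.map_bot]
  have hAE : ∀ n, A' ≤ Cfsg.kSeqEven P n := fun n =>
    le_sSup (Techniques.kLowerStarFamily_anti le_top hAlow)
  by_cases hodd : ∃ n, ¬ (Cfsg.kSeqOdd P (n + 1)).map P.subtype ≤ T
  · -- (ii) a member of an upper-star family leaves `T`
    obtain ⟨n, hn⟩ := hodd
    obtain ⟨B, hB, hBT⟩ : ∃ B ∈ Cfsg.kUpperStarFamily (Cfsg.kSeqEven P n),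
        ¬ B.map P.subtype ≤ T := by
      by_contra hcon
      push Not at hcon
      refine hn ?_
      rw [Techniques.kSeqOdd_succ, sSup_eq_iSup', Subgroup.map_iSup]
      exact iSup_le fun B => hcon B B.2
    obtain ⟨g, hgB, hgT⟩ := SetLike.not_le_iff_exists.mp hBT
    have hgle : zpowers g ≤ B.map P.subtype := zpowers_le.mpr hgB
    have hq : ⁅⁅A, zpowers g⁆, zpowers g⁆ = ⊥ := by
      refine le_bot_iff.mp ((commutator_mono (commutator_mono le_rfl hgle) hgle).trans ?_)
      rw [← hA'map, ← map_commutator, ← map_commutator]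
      refine (map_mono ?_).trans (Subgroup.map_bot _).le
      rw [le_bot_iff, commutator_eq_bot_iff_le_centralizer, Subgroup.commutator_comm]
      exact ((commutator_mono le_rfl (hAE n)).trans hB.2).trans inf_le_right
    have hq2 : Cfsg.iterCommutator A (zpowers g) 2 ≤ Z := hq.le.trans bot_le
    exact ⟨g, (map_subtype_le B) hgB, hgT, (hquad g hq2).1,
      le_bot_iff.mp ((commutator_mono (commutator_mono hZA le_rfl) le_rfl).trans hq.le),
      Or.inr (hquad g hq2).2⟩
  push Not at hodd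
  -- (iii) a member of a lower-star family leaves `T`
  have heven : ∃ n, ¬ (Cfsg.kSeqEven P n).map P.subtype ≤ T := by
    by_contra hcon
    push Not at hcon
    obtain ⟨h1, h2⟩ := kInf_normal_of_le (S := S) fun n => ⟨hcon n, hodd n⟩
    rcases hK with h | h
    · exact h h1
    · exact h h2
  classical
  set n := Nat.find heven
  have hn : ¬ (Cfsg.kSeqEven P n).map P.subtype ≤ T := Nat.find_spec heven
  have hAO : A' ≤ Cfsg.kSeqOdd P n := by
    rcases Nat.eq_zero_or_pos n with h0 | h0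
    · rw [h0]; exact le_top
    obtain ⟨m, hm⟩ := Nat.exists_eq_succ_of_ne_zero h0.ne'
    rw [hm]
    refine le_sSup (show A' ∈ Cfsg.kUpperStarFamily (Cfsg.kSeqEven P m) from ⟨hA'2, ?_⟩)
    have hEm : (Cfsg.kSeqEven P m).map P.subtype ≤ T :=
      not_not.mp (Nat.find_min heven (show m < n by omega))
    rw [← hZ'eq, ← map_le_map_iff_of_injective hsub, map_commutator, hA'map, hZ'map,
      Subgroup.commutator_comm]
    exact (commutator_mono hEm le_rfl).trans hTA
  obtain ⟨B, hB, hBT⟩ : ∃ B ∈ Cfsg.kLowerStarFamily (Cfsg.kSeqOdd P n), ¬ B.map P.subtype ≤ T := by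
    by_contra hcon
    push Not at hcon
    refine hn ?_
    rw [Techniques.kSeqEven_eq, sSup_eq_iSup', Subgroup.map_iSup]
    exact iSup_le fun B => hcon B B.2
  set B₀ := B.map P.subtype with hB₀
  have hAB : ⁅A, B₀⁆ ≤ B₀ := by
    rw [← hA'map, hB₀, ← map_commutator]
    refine map_mono (commutator_le.mpr fun a ha b hb => ?_)
    rw [commutatorElement_def]
    exact mul_mem ((mem_normalizer_iff.mp (hB.2.1 (hAO ha)) b).mp hb) (inv_mem hb)
  have hB2 : ⁅B₀, B₀⁆ ≤ centralizer (B₀ : Set G) := (map_classTwo hsub).mpr hB.1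
  have hmapC : (B ⊓ centralizer (B : Set P)).map P.subtype = B₀ ⊓ centralizer (B₀ : Set G) :=
    map_center_part hsub B
  have hZtest : ⁅B, Z'⁆ ≤ B ⊓ centralizer (B : Set P) :=
    hB.2.2 Z' (abelian_mem_classTwo hZ'comm) ((show Z' ≤ A' from hZ'eq.le.trans inf_le_left).trans hAO)
      (by rw [normalizer_eq_top_iff.mpr hZ'n]; exact le_top)
      (by rw [commutator_self_eq_bot hZ'comm, Subgroup.commutator_bot_right])
      (le_bot_iff.mp ((commutator_mono (commutator_le_right _ Z') le_rfl).trans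
        (commutator_self_eq_bot hZ'comm).le))
  have hZB : ⁅Z, B₀⁆ ≤ B₀ ⊓ centralizer (B₀ : Set G) := by
    rw [← hmapC, Subgroup.commutator_comm, ← hZ'map, hB₀, ← map_commutator]
    exact map_mono hZtest
  have hZgg : ∀ g ∈ B₀, ⁅⁅Z, zpowers g⁆, zpowers g⁆ = ⊥ := fun g hg => by
    refine commutator_eq_bot_iff_le_centralizer.mpr ?_
    exact ((commutator_mono le_rfl (zpowers_le.mpr hg)).trans hZB).trans
      (inf_le_right.trans (centralizer_le (SetLike.coe_subset_coe.mpr (zpowers_le.mpr hg))))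
  have hBP : B₀ ≤ P := map_subtype_le B
  by_cases hzb : B₀ ⊓ centralizer (B₀ : Set G) ≤ T
  swap
  · -- an element of `Z(B)` outside `T`
    obtain ⟨g, hg, hgT⟩ := SetLike.not_le_iff_exists.mp hzb
    have hq : Cfsg.iterCommutator A (zpowers g) 2 ≤ Z := by
      refine le_trans ?_ (bot_le : (⊥ : Subgroup G) ≤ Z)
      refine le_of_eq (commutator_eq_bot_iff_le_centralizer.mpr ?_)
      refine ((commutator_mono le_rfl (zpowers_le.mpr hg.1)).trans hAB).trans ?_
      exact le_centralizer_iff.mp (zpowers_le.mpr hg.2)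
    exact ⟨g, hBP hg.1, hgT, (hquad g hq).1, hZgg g hg.1, Or.inr (hquad g hq).2⟩
  have hcubic : ∀ g ∈ B₀, Cfsg.iterCommutator A (zpowers g) 3 ≤ Z := fun g hg => by
    have hgle : zpowers g ≤ B₀ := zpowers_le.mpr hg
    refine le_trans ?_ (bot_le : (⊥ : Subgroup G) ≤ Z)
    change ⁅⁅⁅A, zpowers g⁆, zpowers g⁆, zpowers g⁆ ≤ ⊥
    refine (commutator_mono (commutator_mono (commutator_mono le_rfl hgle) hgle) hgle).trans
      ((commutator_mono (commutator_mono hAB le_rfl) le_rfl).trans ?_)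
    exact (commutator_eq_bot_iff_le_centralizer.mpr hB2).le
  by_cases hnontriv : ∃ b ∈ B₀, b ∉ T ∧ ∃ U V, Cfsg.IsChiefFactor U V ∧ U ≤ Z ∧ ¬ TrivOn b U V
  · obtain ⟨b, hb, hbT, hUV⟩ := hnontriv
    exact ⟨b, hBP hb, hbT, hcubic b hb, hZgg b hb, Or.inl hUV⟩
  push Not at hnontriv
  obtain ⟨g, hg, hgT⟩ := SetLike.not_le_iff_exists.mp hBT
  refine ⟨g, hBP hg, hgT, hcubic g hg, hZgg g hg, Or.inr fun U V hUV hZV hUA => ?_⟩
  have hT0 : IsPGroup p T := Core.pCore_isPGroup
  have htriv : ∀ b ∈ B₀, ∀ U V, Cfsg.IsChiefFactor U V → U ≤ Z → TrivOn b U V := by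
    intro b hb U V hUV hU
    by_cases hbT : b ∈ T
    · have := hUV.2.2.1
      intro u hu
      have h1 := le_centralizer_of_chief hT0 ((hU.trans hZA).trans hAT) hUV
        (mem_map_of_mem _ hbT)
      have h2 := mem_centralizer_iff.mp h1 (QuotientGroup.mk' V u) (mem_map_of_mem _ hu)
      refine (QuotientGroup.eq_one_iff _).mp (show QuotientGroup.mk' V ⁅b, u⁆ = 1 from ?_)
      rw [map_commutatorElement, commutatorElement_eq_one_iff_mul_comm]
      exact h2.symm
    · exact hnontriv b hb hbT U V hUV hU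
  refine quadratic_above (B := B₀) (hT0.to_le (hZA.trans hAT)) hAA hZC hAB hB2 ?_ htriv hg hUV hZV hUA
  -- `rad A B` is a test subgroup for `B`
  set R := rad A B₀ with hRdef
  have hRP : R ≤ P := (rad_le A B₀).trans hAP
  set R' := R.subgroupOf P with hR'def
  have hR'map : R'.map P.subtype = R := map_subgroupOf_eq_of_le hRP
  have hRR : ⁅R, R⁆ ≤ centralizer (B₀ : Set G) := commutator_le.mpr fun x hx y hy =>
    ((mem_rad (hAA.trans hZC)).mp hx).2 y (rad_le A B₀ hy)
  have hRA : R' ≤ A' := fun x hx => rad_le A B₀ hx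
  have hBN : B ≤ normalizer (R' : Set P) := by
    refine (map_le_normalizer_map_iff hsub).mp ?_
    rw [hR'map]
    intro d hd
    refine Control.mem_normalizer_of_cjSub_eq (eq_of_le_of_card_ge ?_ (Control.card_cjSub d _).ge)
    rintro _ ⟨x, hx, rfl⟩
    obtain ⟨hxA, hxc⟩ := (mem_rad (hAA.trans hZC)).mp hx
    refine (mem_rad (hAA.trans hZC)).mpr ⟨(‹A.Normal›).conj_mem x hxA d, fun y hy => ?_⟩
    have hy' : d⁻¹ * y * d ∈ A := by simpa using (‹A.Normal›).conj_mem y hy d⁻¹
    have h2 := hxc _ hy'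
    have h3 : d * ⁅x, d⁻¹ * y * d⁆ * d⁻¹ = ⁅x, d⁻¹ * y * d⁆ := by
      rw [mem_centralizer_iff.mp h2 d hd, mul_inv_cancel_right]
    change ⁅d * x * d⁻¹, y⁆ ∈ _
    have h4 : ⁅d * x * d⁻¹, y⁆ = d * ⁅x, d⁻¹ * y * d⁆ * d⁻¹ := by
      simp only [commutatorElement_def]; group
    rw [h4, h3]; exact h2
  have htest := hB.2.2 R' ((map_classTwo hsub).mp (by
      rw [hR'map]
      exact (commutator_mono (rad_le _ _) (rad_le _ _)).trans
        ((hAA.trans hZC).trans (centralizer_le (SetLike.coe_subset_coe.mpr (rad_le _ _))))))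
    (hRA.trans hAO) hBN
    ((map_eq_bot_iff_of_injective _ hsub).mp (by
      rw [map_commutator, map_commutator, hR'map, Subgroup.commutator_comm]
      exact commutator_eq_bot_iff_le_centralizer.mpr hRR))
    ((map_eq_bot_iff_of_injective _ hsub).mp (by
      rw [map_commutator, map_commutator, hR'map, hmapC]
      refine le_bot_iff.mp ((commutator_mono (commutator_mono hzb (rad_le A B₀)) (rad_le A B₀)).trans ?_)
      exact (commutator_mono hTA le_rfl).trans hZZ.le))
  rw [← hR'map, hB₀, ← map_commutator]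
  exact (map_mono htest).trans (hmapC.le.trans inf_le_right)

end key

end Cfsg.Agent.KInf
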