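import Cfsg.Agent.KInf.WeakClosure
import Cfsg.Agent.KInf.Control

/-!
# The quadratic element on the centre of `O_p` for the K-infinity functors
-/

namespace Cfsg.Agent.KInf

open Subgroup
open scoped commutatorElement

set_option linter.unusedSectionVars false

universe u

variable {G : Type u} [Group G] [Finite G] {p : ℕ} [hp : Fact p.Prime]

theorem center_le_inducedFunctor {W : ∀ (Q : Type u) [Group Q], Subgroup Q} (hW : IsKFunctor W)
    {P : Subgroup G} : P ⊓ centralizer (P : Set G) ≤ Cfsg.inducedFunctor W P := by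
  intro x hx
  refine ⟨⟨x, hx.1⟩, ?_, rfl⟩
  have hc : (⟨x, hx.1⟩ : P) ∈ center P :=
    mem_center_iff.mpr fun y => Subtype.ext (mem_centralizer_iff.mp hx.2 y y.2)
  rcases hW with rfl | rfl
  · exact center_le_kInf.1 hc
  · exact center_le_kInf.2 hc

/-- If `W(T)` is not normal in `H`, some element of `T` outside `O_p(H)` acts quadratically on the
centre of `O_p(H)`. -/
theorem exists_quadratic_center {W : ∀ (Q : Type u) [Group Q], Subgroup Q} (hW : IsKFunctor W)
    (H T : Subgroup G) (hTH : T ≤ H) (hT : IsPGroup p T) (hd : ¬ p ∣ T.relIndex H)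
    (hn : ¬ H ≤ normalizer ((Cfsg.inducedFunctor W T : Subgroup G) : Set G)) :
    ∃ g : H, (g : G) ∈ T ∧ g ∉ Cfsg.pCore p H ∧
      ⁅⁅Cfsg.pCore p H ⊓ centralizer (Cfsg.pCore p H : Set H), zpowers g⁆, zpowers g⁆ = ⊥ := by
  set S : Sylow p H := (hT.comap_subtype (K := H)).toSylow hd
  have hS : (S : Subgroup H).map H.subtype = T := map_subgroupOf_eq_of_le hTH
  have hn' : ¬ (Cfsg.inducedFunctor W (S : Subgroup H)).Normal := fun h => hn fun k hk => by
    refine Control.mem_normalizer_of_cjSub_eq ?_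
    have h1 : Control.cjSub (⟨k, hk⟩ : H) (Cfsg.inducedFunctor W (S : Subgroup H)) = _ :=
      Control.cjSub_eq_of_mem (by rw [normalizer_eq_top_iff.mpr h]; exact mem_top _)
    rw [← hS, Control.inducedFunctor_map hW.isCharPFunctor H.subtype S.2
      H.subtype_injective.injOn]
    conv_rhs => rw [← h1]
    rw [Control.cjSub, Control.cjSub, map_map, map_map]
    rfl
  obtain ⟨g, hgS, hgQ, -, hq, -⟩ := exists_small_degree S (hW.hasSmallDegree S hn')
  exact ⟨g, hgS, hgQ, hq⟩

theorem exists_quadratic_center' {W : ∀ (Q : Type u) [Group Q], Subgroup Q} (hW : IsKFunctor W)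
    (H T : Subgroup G) (hTH : T ≤ H) (hT : IsPGroup p T) (hd : ¬ p ∣ T.relIndex H)
    (hn : ¬ H ≤ normalizer ((Cfsg.inducedFunctor W T : Subgroup G) : Set G)) :
    ∃ g : G, g ∈ T ∧ g ∉ Cfsg.pCoreOf p H ∧
      ⁅⁅Cfsg.pCoreOf p H ⊓ centralizer ((Cfsg.pCoreOf p H : Subgroup G) : Set G), zpowers g⁆,
        zpowers g⁆ = ⊥ := by
  obtain ⟨g, hgT, hgQ, hq⟩ := exists_quadratic_center hW H T hTH hT hd hn
  refine ⟨g, hgT, fun h => hgQ ((mem_map_iff_mem H.subtype_injective).mp h), ?_⟩
  rw [Cfsg.pCoreOf, ← map_center_part H.subtype_injective,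
    show zpowers (g : G) = (zpowers g).map H.subtype from (MonoidHom.map_zpowers H.subtype g).symm,
    ← map_commutator, ← map_commutator, hq, Subgroup.map_bot]

/-- The K-infinity functors control weak closure of elements for `p` odd. -/
theorem controlsWeakClosure_kInf {W : ∀ (Q : Type u) [Group Q], Subgroup Q} (hW : IsKFunctor W)
    (h2 : p ≠ 2) (H : Subgroup G) :
    Cfsg.ControlsWeakClosureOfElementsIn p (Cfsg.inducedFunctor (G := G) W) H := by
  have h3 : 2 ≤ p - 1 := by have := hp.out.two_le; omega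
  obtain ⟨T, hT⟩ := Control.SylIn.exists (p := p) H
  refine ⟨fun P _ => center_le_inducedFunctor hW, T, hT.le, hT.isPGroup, hT.not_dvd,
    fun x hx h hh hhx => Control.weakClosureIn (Control.isConjugacyFunctor_induced hW.isCharPFunctor)
      (fun P _ => center_le_inducedFunctor hW) (fun H' T' h1 h2' h4 h5 => ?_) hT hx hh hhx⟩
  obtain ⟨g, hgT, hgQ, hq⟩ := exists_quadratic_center hW H' T' h1 h2' h4 h5
  refine ⟨g, hgT, fun h => hgQ ((mem_map_iff_mem H'.subtype_injective).mp h),
    fun U V hUV hU => ?_⟩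
  rw [Cfsg.pCoreOf, ← map_center_part H'.subtype_injective,
    map_le_map_iff_of_injective H'.subtype_injective] at hU
  rw [show zpowers (g : G) = (zpowers g).map H'.subtype from (MonoidHom.map_zpowers H'.subtype g).symm,
    ← Control.map_iterCommutator]
  have := hUV.2.1
  exact map_mono ((iter_anti U _ h3).trans (((iter_mono hU _ 2).trans hq.le).trans bot_le))

end Cfsg.Agent.KInf
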